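import Groth.Agent.LeffAmple.Seq
import Groth.Agent.SerrePn.HomTwist
import Groth.Agent.CohFinite.Proper
import Groth.Agent.CohFinite.Ample
import Groth.Agent.LefRel.Lef
import Groth.Agent.RelPCS.Single
import Groth.Agent.FormAlg.LefPic

/-!
Generation of a locally free system along an ample divisor by compatible sections of twists.
-/

set_option autoImplicit false
set_option maxHeartbeats 1000000
set_option linter.style.haveILetI false
set_option linter.unusedSectionVars false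
set_option backward.isDefEq.respectTransparency false
set_option backward.isDefEq.respectTransparency.types false
universe u

namespace Groth.Agent.LeffAmple

open CategoryTheory CategoryTheory.Limits CategoryTheory.Abelian AlgebraicGeometry TopologicalSpace Opposite
open Groth.Agent.K0Dev (St)
open Groth.Agent.ZarPicLib (sec secZ secZ_comp)
open Groth.Agent.Nakai (cl_tensor cl_pow cl_one iso_of_cl)
open Groth.Agent.CohFinite (tmap hhMap hhEquiv)
open FormAlg (sysObj sysTn)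

attribute [local instance] Groth.Agent.Nakai.clMonoid

noncomputable section

/-- Global sections surject when the map on first cohomology of the kernel is injective. -/
theorem surjective_top {X : TopCat.{u}} {S : ShortComplex (CohTop.Ab X)} (hS : S.ShortExact)
    (h : ∀ x : CohTop.H S.X₁ 1, Ext.comp x (Ext.mk₀ S.f) (add_zero 1) = 0 → x = 0) :
    Function.Surjective (S.g.hom.app (op (⊤ : Opens X))) := fun q => by
  obtain ⟨d, hd⟩ := Ext.covariant_sequence_exact₃ _ hS (Ext.mk₀ ((secZ S.X₃).symm q)) (zero_add 1)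
    (h _ (by rw [Ext.comp_assoc _ _ _ (zero_add 1) (add_zero 1) (by omega), hS.extClass_comp, Ext.comp_zero]))
  obtain ⟨ψ, rfl⟩ := (Ext.mk₀_bijective _ _).2 d
  rw [Ext.mk₀_comp_mk₀] at hd
  exact ⟨secZ _ ψ, by rw [← secZ_comp, (Ext.mk₀_bijective _ _).1 hd, AddEquiv.apply_symm_apply]⟩

theorem surjective_sections {X : Scheme.{u}} {S : ShortComplex X.Modules} (hS : S.ShortExact)
    (h : Function.Injective (Sheaf.H.map ((SheafOfModules.toSheaf X.ringCatSheaf).map S.f) 1)) :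
    Function.Surjective (S.g.app ⊤) := by
  have hS' := CohFinite.shortExact_toAb hS
  exact surjective_top (S := S.map (CohQC.toAbF X)) hS' fun x hx => h (hx.trans (map_zero _).symm)

/-- An increasing chain of quotients of a Noetherian module stabilises. -/
theorem exists_eventually_injective {A : Type*} [CommRing A] [IsNoetherianRing A] {M : ℕ → Type*}
    [∀ k, AddCommGroup (M k)] [∀ k, Module A (M k)] [Module.Finite A (M 0)] (α : ∀ k, M k →ₗ[A] M (k + 1))
    (hα : ∀ k, Function.Surjective (α k)) : ∃ K, ∀ k, K ≤ k → Function.Injective (α k) := by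
  let β : ∀ k, M 0 →ₗ[A] M k := fun k => Nat.rec LinearMap.id (fun k b => (α k).comp b) k
  have hβ : ∀ k, Function.Surjective (β k) := fun k => by
    induction k with
    | zero => exact fun x => ⟨x, rfl⟩
    | succ k ih => exact (hα k).comp ih
  let f : ℕ →o Submodule A (M 0) := ⟨fun k => LinearMap.ker (β k), monotone_nat_of_le_succ fun k x hx => by
    show α k (β k x) = 0
    rw [LinearMap.mem_ker.1 hx, map_zero]⟩
  obtain ⟨K, hK⟩ := monotone_stabilizes_iff_noetherian.2 (inferInstanceAs (IsNoetherian A (M 0))) f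
  refine ⟨K, fun k hk => (injective_iff_map_eq_zero _).2 fun x hx => ?_⟩
  obtain ⟨y, rfl⟩ := hβ k x
  exact (((hK k hk).symm.trans (hK (k + 1) (hk.trans (Nat.le_succ k)))).ge
    (show y ∈ LinearMap.ker (β (k + 1)) from hx) : y ∈ LinearMap.ker (β k))

variable {X : Scheme.{u}}

/-- A globally generated module with finite sections is a quotient of a finite free module. -/
theorem exists_finite_gen (A : Type u) [CommRing A] [X.Over (Spec (CommRingCat.of A))] {M : X.Modules}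
    (hg : Curv2.IsGloballyGenerated M) [Module.Finite A (Coh.HH X M 0)] :
    ∃ (l : ℕ) (s : Fin l → Γ(M, ⊤)), Epi (Sigma.desc fun j => TMul.homOf (s j)) := by
  obtain ⟨e, he⟩ := CohFinite.exists_zero_equiv A M
  obtain ⟨l, t, ht⟩ := Module.Finite.exists_fin (R := A) (M := Coh.HH X M 0)
  refine ⟨l, fun j => e (t j), ⟨fun {Q} g h hgh => ?_⟩⟩
  obtain ⟨ι, p, hp⟩ := hg
  haveI := hp
  have hs : ∀ j, g.app ⊤ (e (t j)) = h.app ⊤ (e (t j)) := fun j => by
    have h1 := congrArg (fun φ => Sigma.ι (fun _ : Fin l => Coh.structureModule X) j ≫ φ) hgh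
    simp only [Sigma.ι_desc_assoc] at h1
    rw [← ProjMor.homOf_app, ← ProjMor.homOf_app] at h1
    have h2 := congrArg (fun φ => TMul.val φ ⊤) h1
    simpa [TMul.val_homOf, Groth.Agent.QC.res_self] using h2
  have hall : ∀ v : Γ(M, ⊤), g.app ⊤ v = h.app ⊤ v := fun v => by
    obtain ⟨x, rfl⟩ := e.surjective v
    have hx : x ∈ Submodule.span A (Set.range t) := ht ▸ Submodule.mem_top
    induction hx using Submodule.span_induction with
    | mem y hy => obtain ⟨j, rfl⟩ := hy; exact hs j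
    | zero => simp only [map_zero]
    | add y z _ _ hy hz => simp only [map_add, hy, hz]
    | smul a y _ hy => rw [he, Scheme.Modules.Hom.app_smul, Scheme.Modules.Hom.app_smul, hy]
  rw [← cancel_epi p]
  refine Sigma.hom_ext _ _ fun i => TMul.hom_ext_val ?_
  rw [← Category.assoc, ← Category.assoc, TMul.val_comp, TMul.val_comp]
  exact hall _

/-- The isomorphism undoing a twist. -/
theorem exists_inverse_pow {I : X.IdealSheafData} {L : X.Modules} (hL : ClSub.IsInverseOf L (ClSub.idealMod I))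
    (r : ℕ) : Nonempty (CohB1.tensorMod (CohB1.tensorPow L r) (CohB1.tensorPow (ClSub.idealMod I) r) ≅
      Coh.structureModule X) := by
  refine iso_of_cl ?_
  rw [cl_tensor, cl_pow, cl_pow, ← mul_pow, Groth.Agent.Nakai.cl_inv hL, one_pow, cl_one]

variable (A : Type u) [CommRing A] [IsNoetherianRing A] [X.Over (Spec (CommRingCat.of A))]
  [IsProper (X ↘ Spec (CommRingCat.of A))] {I : X.IdealSheafData} {L : X.Modules}
  (𝔐 : FSch.ModSys (FSch.completionAlong X I))

theorem isCoh_sysObj [IsLocallyNoetherian X] (h𝔐 : ∀ n, FlatMod.IsFinLocFree (𝔐.F n)) (n : ℕ) :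
    Coh.IsCoh (sysObj 𝔐 n) := by
  haveI : (𝔐.F n).IsQuasicoherent := LocFree.isQCoh_of_isFinLocFree (h𝔐 n)
  exact Groth.Agent.QC.isCoh_pushforward_of_isFinite (FSch.completionToX X I n) (LocFree.isFT_of_isFinLocFree (h𝔐 n))

theorem exists_seq' (hI : BlowUp.IsEffCartierIdeal I) (h𝔐 : ∀ n, FlatMod.IsFinLocFree (𝔐.F n)) (a b m : ℕ)
    (hm : a + b + 1 = m) :
    ∃ (φ : CohB1.tensorMod (sysObj 𝔐 b) (ClSub.idealMod (I ^ (a + 1))) ⟶ sysObj 𝔐 m)
      (w : φ ≫ tr 𝔐 (show a ≤ m by omega) = 0), (ShortComplex.mk φ _ w).ShortExact := by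
  subst hm
  exact exists_seq 𝔐 hI h𝔐 a b

/-- Compatible lifts along a tower with eventually surjective transition maps. -/
theorem exists_compatible_aux {G : ℕ → Type*} (t : ∀ a b, a ≤ b → G b → G a)
    (ht : ∀ a b c (h : a ≤ b) (h' : b ≤ c) u, t a b h (t b c h' u) = t a c (h.trans h') u)
    (N : ℕ) (h0 : Function.Surjective (t 0 N (Nat.zero_le N)))
    (hs : ∀ n, N ≤ n → Function.Surjective (t n (n + 1) (Nat.le_succ n))) (v : G 0) :
    ∃ σ : ∀ n, G n, (∀ n, t n (n + 1) (Nat.le_succ n) (σ (n + 1)) = σ n) ∧ σ 0 = v := by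
  obtain ⟨w, hw⟩ := h0 v
  choose F hF using fun (i : ℕ) (u : G (N + i)) => hs (N + i) (by omega) u
  let σ' : ∀ i, G (N + i) := fun i => Nat.rec w (fun i u => F i u) i
  refine ⟨fun n => t n (N + n) (by omega) (σ' n), fun n => ?_, hw⟩
  refine (ht n (n + 1) (N + (n + 1)) (Nat.le_succ n) (by omega) _).trans ?_
  refine (ht n (N + n) (N + (n + 1)) (by omega) (Nat.le_succ (N + n)) (σ' (n + 1))).symm.trans ?_
  exact congrArg (t n (N + n) (by omega)) (hF n (σ' n))

/-- Composite transition maps on twisted sections. -/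
theorem tmap_tr_app (P : X.Modules) {a b c : ℕ} (h : a ≤ b) (h' : b ≤ c)
    (u : Γ(CohB1.tensorMod (sysObj 𝔐 c) P, ⊤)) :
    (tmap (tr 𝔐 h) P).app ⊤ ((tmap (tr 𝔐 h') P).app ⊤ u) = (tmap (tr 𝔐 (h.trans h')) P).app ⊤ u := by
  rw [← tr_comp 𝔐 h h', CohFinite.tmap_comp, Scheme.Modules.Hom.comp_app]
  rfl

/-- Compatible lifts of sections. -/
theorem exists_compatible (P : X.Modules) (N : ℕ)
    (h0 : Function.Surjective ((tmap (tr 𝔐 (Nat.zero_le N)) P).app ⊤))
    (hs : ∀ n, N ≤ n → Function.Surjective ((tmap (tr 𝔐 (Nat.le_succ n)) P).app ⊤))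
    (v : Γ(CohB1.tensorMod (sysObj 𝔐 0) P, ⊤)) :
    ∃ σ : ∀ n, Γ(CohB1.tensorMod (sysObj 𝔐 n) P, ⊤),
      (∀ n, (tmap (sysTn 𝔐 n) P).app ⊤ (σ (n + 1)) = σ n) ∧ σ 0 = v := by
  obtain ⟨σ, hσ, h⟩ := exists_compatible_aux (fun a b h u => (tmap (tr 𝔐 (a := a) (b := b) h) P).app ⊤ u)
    (fun a b c h h' u => tmap_tr_app 𝔐 P h h' u) N h0 hs v
  refine ⟨σ, fun n => ?_, h⟩
  rw [← tr_succ 𝔐 n]
  exact hσ n

variable (hL : ClSub.IsInverseOf L (ClSub.idealMod I)) (hamp : CohB1.IsAmple L)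
  (h𝔐 : ∀ n, FlatMod.IsFinLocFree (𝔐.F n))
  (hvan : ∃ m₀, ∀ m, m₀ ≤ m →
    Subsingleton (Coh.HH X (CohB1.tensorMod (sysObj 𝔐 0) (CohB1.tensorPow (ClSub.idealMod I) m)) 1))

include hL in
theorem isEffCartier_of_inverse : BlowUp.IsEffCartierIdeal I := by
  obtain ⟨e⟩ := hL
  exact (Groth.Agent.S8914.result I).1 (Groth.Agent.S2122.result _ _ (TMul.commIso _ _ ≪≫ e))

omit [IsNoetherianRing A] [IsProper (X ↘ Spec (CommRingCat.of A))] in
theorem surjective_of_hhMap {S : ShortComplex X.Modules} (hS : S.ShortExact) {P : X.Modules}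
    (hP : PicF.IsInvertible P) (h : Function.Injective (hhMap A (tmap S.f P) 1)) :
    Function.Surjective ((tmap S.g P).app ⊤) :=
  surjective_sections (CohFinite.shortExact_tmap hP hS) h

omit [IsNoetherianRing A] [IsProper (X ↘ Spec (CommRingCat.of A))] in
theorem surjective_hhMap {S : ShortComplex X.Modules} (hS : S.ShortExact) {P : X.Modules}
    (hP : PicF.IsInvertible P) (h : Subsingleton (Coh.HH X (CohB1.tensorMod S.X₃ P) 1)) :
    Function.Surjective (hhMap A (tmap S.f P) 1) := fun x =>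
  (CohFinite.map_g_eq_zero_iff (CohFinite.shortExact_toAb (CohFinite.shortExact_tmap hP hS)) 1 x).1
    (Subsingleton.elim (α := Coh.HH X (CohB1.tensorMod S.X₃ P) 1) _ _)

include hL in
theorem cl_twist {M : X.Modules} {Q : X.Modules} (hQ : PicF.cl Q = PicF.cl (ClSub.idealMod I)) (i : ℕ) :
    Nonempty (CohB1.tensorMod M (CohB1.tensorPow L i) ≅
      CohB1.tensorMod (CohB1.tensorMod M Q) (CohB1.tensorPow L (i + 1))) := by
  refine iso_of_cl ?_
  simp only [cl_tensor, cl_pow, hQ]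
  rw [pow_succ (PicF.cl L) i]
  calc _ = PicF.cl M * PicF.cl L ^ i * (PicF.cl L * PicF.cl (ClSub.idealMod I)) := by
        rw [Groth.Agent.Nakai.cl_inv hL, mul_one]
    _ = _ := by ac_rfl

include hL in
theorem cl_untwist {M : X.Modules} (hI : BlowUp.IsEffCartierIdeal I) {d e n : ℕ} (h : n + 1 = d + e) :
    Nonempty (CohB1.tensorMod M (CohB1.tensorPow (ClSub.idealMod I) d) ≅
      CohB1.tensorMod (CohB1.tensorMod M (ClSub.idealMod (I ^ (n + 1)))) (CohB1.tensorPow L e)) := by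
  refine iso_of_cl ?_
  simp only [cl_tensor, cl_pow, (LefDiv.idealMod_pow hI n).2]
  rw [h, pow_add]
  calc _ = PicF.cl M * PicF.cl (ClSub.idealMod I) ^ d *
        (PicF.cl L * PicF.cl (ClSub.idealMod I)) ^ e := by rw [Groth.Agent.Nakai.cl_inv hL, one_pow, mul_one]
    _ = _ := by rw [mul_pow]; ac_rfl

/-- An abstract diagonal chain. -/
theorem exists_chain_aux {Q : ℕ → X.Modules} (S : ℕ → ShortComplex X.Modules) (hS : ∀ k, (S k).ShortExact)
    {P : ℕ → X.Modules} (hP : ∀ k, PicF.IsInvertible (P k)) [∀ k, Module.Finite A (Coh.HH X (Q k) 1)]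
    (e : ∀ k, Q k ≅ CohB1.tensorMod (S k).X₁ (P k)) (e' : ∀ k, CohB1.tensorMod (S k).X₂ (P k) ≅ Q (k + 1))
    (hv : ∀ k, Subsingleton (Coh.HH X (CohB1.tensorMod (S k).X₃ (P k)) 1)) :
    ∃ K, ∀ k, K ≤ k → Function.Surjective ((tmap (S k).g (P k)).app ⊤) := by
  obtain ⟨K, hK⟩ := exists_eventually_injective (M := fun k => Coh.HH X (Q k) 1)
    (fun k => (hhEquiv A (e' k) 1).toLinearMap.comp
      ((hhMap A (tmap (S k).f (P k)) 1).comp (hhEquiv A (e k) 1).toLinearMap))
    fun k => (hhEquiv A (e' k) 1).surjective.comp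
      ((surjective_hhMap A (hS k) (hP k) (hv k)).comp (hhEquiv A (e k) 1).surjective)
  refine ⟨K, fun k hk => surjective_of_hhMap A (hS k) (hP k) fun x y hxy => ?_⟩
  refine (hhEquiv A (e k) 1).symm.injective (hK k hk ?_)
  simp only [LinearMap.comp_apply, LinearEquiv.coe_coe, LinearEquiv.apply_symm_apply]
  rw [hxy]

include A hL hamp h𝔐 in
/-- The diagonal chain of cohomology groups stabilises. -/
theorem exists_chain_injective (hI : BlowUp.IsEffCartierIdeal I) (c : ℕ) :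
    ∃ n₀ K : ℕ, ∀ k, K ≤ k →
      Function.Surjective ((tmap (tr 𝔐 (Nat.zero_le (c + (n₀ + (k + 1))))) (CohB1.tensorPow L (n₀ + (k + 1)))).app ⊤) := by
  haveI : IsLocallyNoetherian X := LocallyOfFiniteType.isLocallyNoetherian (X ↘ Spec (CommRingCat.of A))
  obtain ⟨n₀, hn₀⟩ := CohFinite.vanish_ample (X ↘ Spec (CommRingCat.of A)) hamp (isCoh_sysObj 𝔐 h𝔐 0)
  choose φ w hφ using fun k : ℕ => exists_seq' 𝔐 hI h𝔐 0 (c + (n₀ + k)) (c + (n₀ + (k + 1))) (by omega)
  haveI : ∀ k, Module.Finite A (Coh.HH X (CohB1.tensorMod (sysObj 𝔐 (c + (n₀ + k))) (CohB1.tensorPow L (n₀ + k))) 1) :=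
    fun k => CohFinite.finite_proper A X _
      (CohFinite.isCoh_tensor (isCoh_sysObj 𝔐 h𝔐 _) (TMul.isInvertible_tensorPow hamp.1 _)) 1
  obtain ⟨K, hK⟩ := exists_chain_aux A
    (Q := fun k => CohB1.tensorMod (sysObj 𝔐 (c + (n₀ + k))) (CohB1.tensorPow L (n₀ + k)))
    (fun k => ShortComplex.mk (φ k) (tr 𝔐 (Nat.zero_le _)) (w k)) hφ
    (P := fun k => CohB1.tensorPow L (n₀ + (k + 1))) (fun k => TMul.isInvertible_tensorPow hamp.1 _)
    (fun k => (cl_twist hL (M := sysObj 𝔐 (c + (n₀ + k))) (Q := ClSub.idealMod (I ^ (0 + 1)))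
      (by rw [zero_add, pow_one]) (n₀ + k)).some)
    (fun k => Iso.refl _) (fun k => hn₀ _ (Nat.le_add_right _ _) 0)
  exact ⟨n₀, K, hK⟩

include A hL hamp h𝔐 hvan in
/-- Eventually, all global sections of the twists of the zeroth level lift compatibly. -/
theorem exists_lifting :
    ∃ r₀ : ℕ, ∀ r, r₀ ≤ r → ∀ v : Γ(CohB1.tensorMod (sysObj 𝔐 0) (CohB1.tensorPow L r), ⊤),
      ∃ σ : ∀ n, Γ(CohB1.tensorMod (sysObj 𝔐 n) (CohB1.tensorPow L r), ⊤),
        (∀ n, (tmap (sysTn 𝔐 n) (CohB1.tensorPow L r)).app ⊤ (σ (n + 1)) = σ n) ∧ σ 0 = v := by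
  have hI := isEffCartier_of_inverse hL
  obtain ⟨c, hc⟩ := hvan
  obtain ⟨n₀, K, hK⟩ := exists_chain_injective A 𝔐 hL hamp h𝔐 hI c
  refine ⟨n₀ + (K + 1), fun r hr => ?_⟩
  obtain ⟨k, hk, rfl⟩ : ∃ k, K ≤ k ∧ r = n₀ + (k + 1) := ⟨r - n₀ - 1, by omega, by omega⟩
  refine exists_compatible 𝔐 _ (c + (n₀ + (k + 1))) (hK k hk) fun n hn => ?_
  obtain ⟨ψ, wψ, hψ⟩ := exists_seq' 𝔐 hI h𝔐 n 0 (n + 1) rfl
  haveI : Subsingleton (Coh.HH X (CohB1.tensorMod
      (CohB1.tensorMod (sysObj 𝔐 0) (ClSub.idealMod (I ^ (n + 1)))) (CohB1.tensorPow L (n₀ + (k + 1)))) 1) :=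
    CohQC.hh_subsingleton_of_iso (cl_untwist hL hI (d := n + 1 - (n₀ + (k + 1))) (by omega)).some 1 (hc _ (by omega))
  exact surjective_of_hhMap A hψ (TMul.isInvertible_tensorPow hamp.1 _)
    fun x y _ => Subsingleton.elim (α := Coh.HH X (CohB1.tensorMod
      (CohB1.tensorMod (sysObj 𝔐 0) (ClSub.idealMod (I ^ (n + 1)))) (CohB1.tensorPow L (n₀ + (k + 1)))) 1) x y

/-- Compatible maps onto the levels are epimorphisms as soon as the lowest one is. -/
theorem epi_levels (hI : BlowUp.IsEffCartierIdeal I) {M : X.Modules} (φ : ∀ n, M ⟶ sysObj 𝔐 n)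
    (hφ : ∀ n, φ (n + 1) ≫ sysTn 𝔐 n = φ n) (h0 : Epi (φ 0)) (n : ℕ) : Epi (φ n) := by
  haveI := h0
  have htr : φ n ≫ tr 𝔐 (Nat.zero_le n) = φ 0 := by
    induction n with
    | zero => exact (congrArg (φ 0 ≫ ·) (tr_refl 𝔐 0)).trans (Category.comp_id _)
    | succ n ih =>
      refine (congrArg (φ (n + 1) ≫ ·) (tr_comp 𝔐 (Nat.zero_le n) (Nat.le_succ n)).symm).trans ?_
      rw [← Category.assoc, tr_succ, hφ n, ih]
  refine Preadditive.epi_of_isZero_cokernel _ (KFlat.isZero_of_stalks _ fun x => ?_)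
  obtain ⟨ε⟩ := exists_eqn hI x
  have hsurj : Function.Surjective ((St x).map (φ n)).hom := by
    have hR : ∀ i, ∀ v : (sysObj 𝔐 n).presheaf.stalk x, ∃ w : (sysObj 𝔐 n).presheaf.stalk x,
        v - ε.γ ^ i • w ∈ LinearMap.range ((St x).map (φ n)).hom := by
      intro i
      induction i with
      | zero => exact fun v => ⟨v, by rw [pow_zero, one_smul, sub_self]; exact zero_mem _⟩
      | succ i ih =>
        intro v
        obtain ⟨w, hw⟩ := ih v
        obtain ⟨u, hu⟩ := (ModuleCat.epi_iff_surjective ((St x).map (φ 0))).1 inferInstance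
          (((St x).map (tr 𝔐 (Nat.zero_le n))).hom w)
        rw [← htr, Functor.map_comp] at hu
        let u' : (sysObj 𝔐 n).presheaf.stalk x := ((St x).map (φ n)).hom u
        obtain ⟨w', hw'⟩ := (tr_stalk (𝔐 := 𝔐) ε (Nat.zero_le n)).2 (w - u')
          ((map_sub ((St x).map (tr 𝔐 (Nat.zero_le n))).hom w u').trans (sub_eq_zero.2 hu.symm))
        refine ⟨w', ?_⟩
        have : v - ε.γ ^ (i + 1) • w' = (v - ε.γ ^ i • w) + ε.γ ^ i • u' := by
          rw [zero_add, pow_one] at hw'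
          rw [pow_succ, mul_smul, ← hw', smul_sub]
          abel
        rw [this]
        exact add_mem hw (Submodule.smul_mem _ _ ⟨u, rfl⟩)
    intro v
    obtain ⟨w, hw⟩ := hR (n + 1) v
    rw [pow_smul_eq_zero ε n w, sub_zero] at hw
    exact hw
  haveI : Epi ((St x).map (φ n)) := (ModuleCat.epi_iff_surjective _).2 hsurj
  exact IsZero.of_epi_eq_zero ((St x).map (cokernel.π (φ n))) ((cancel_epi ((St x).map (φ n))).1
    (by rw [← Functor.map_comp, cokernel.condition, Functor.map_zero, comp_zero]))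

/-- A presentation by untwisting. -/
theorem untw_compat {P P' : X.Modules} (θ : CohB1.tensorMod P P' ≅ Coh.structureModule X) {M N N' : X.Modules}
    (p : M ⟶ CohB1.tensorMod N P) (g : N ⟶ N') (q : M ⟶ CohB1.tensorMod N' P) (h : p ≫ tmap g P = q) :
    (tmap p P' ≫ (SerrePn.untw θ N).hom) ≫ g = tmap q P' ≫ (SerrePn.untw θ N').hom := by
  subst h
  rw [CohFinite.tmap_comp, Category.assoc, Category.assoc]
  exact congrArg (tmap p P' ≫ ·) (SerrePn.untw_natural θ g).symm

include A hL hamp h𝔐 hvan in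
/-- The system is generated by compatible twisted sections. -/
theorem exists_generators :
    ∃ (r l : ℕ) (φ : ∀ n, CohB1.tensorMod (FlatMod.freeMod X l) (CohB1.tensorPow (ClSub.idealMod I) r) ⟶ sysObj 𝔐 n),
      (∀ n, φ (n + 1) ≫ sysTn 𝔐 n = φ n) ∧ ∀ n, Epi (φ n) := by
  haveI : IsLocallyNoetherian X := LocallyOfFiniteType.isLocallyNoetherian (X ↘ Spec (CommRingCat.of A))
  have hI := isEffCartier_of_inverse hL
  obtain ⟨r₀, hr₀⟩ := exists_lifting A 𝔐 hL hamp h𝔐 hvan
  haveI := (isCoh_sysObj 𝔐 h𝔐 0).1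
  obtain ⟨r₁, hr₁⟩ := TMul.eventually_isGloballyGenerated hamp (F := sysObj 𝔐 0) (isCoh_sysObj 𝔐 h𝔐 0).2
  obtain ⟨r, hr, hr'⟩ : ∃ r, r₀ ≤ r ∧ r₁ ≤ r := ⟨max r₀ r₁, le_max_left _ _, le_max_right _ _⟩
  haveI : Module.Finite A (Coh.HH X (CohB1.tensorMod (sysObj 𝔐 0) (CohB1.tensorPow L r)) 0) :=
    CohFinite.finite_proper A X _ (CohFinite.isCoh_tensor (isCoh_sysObj 𝔐 h𝔐 0) (TMul.isInvertible_tensorPow hamp.1 r)) 0
  obtain ⟨l, s, hs⟩ := exists_finite_gen A (hr₁ r hr')
  choose σ hσ hσ0 using fun j => hr₀ r hr (s j)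
  obtain ⟨θ⟩ := exists_inverse_pow hL r
  have hP' : PicF.IsInvertible (CohB1.tensorPow (ClSub.idealMod I) r) :=
    TMul.isInvertible_tensorPow ((Groth.Agent.S8914.result I).2 hI) r
  have hp : ∀ n, (Limits.Sigma.desc fun j => TMul.homOf (σ j (n + 1))) ≫ tmap (sysTn 𝔐 n) (CohB1.tensorPow L r) =
      Limits.Sigma.desc fun j => TMul.homOf (σ j n) := fun n => Limits.Sigma.hom_ext _ _ fun j => by
    rw [Limits.Sigma.ι_desc_assoc, Limits.Sigma.ι_desc, ← ProjMor.homOf_app, hσ]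
  have h00 : (Limits.Sigma.desc fun j => TMul.homOf (σ j 0)) = Limits.Sigma.desc fun j => TMul.homOf (s j) :=
    congrArg Limits.Sigma.desc (funext fun j => by rw [hσ0])
  refine ⟨r, l, fun n => tmap (Limits.Sigma.desc fun j => TMul.homOf (σ j n)) _ ≫ (SerrePn.untw θ _).hom,
    fun n => untw_compat θ _ _ _ (hp n), epi_levels 𝔐 hI _ (fun n => untw_compat θ _ _ _ (hp n)) ?_⟩
  haveI := hs
  have hS : (ShortComplex.mk (kernel.ι (Limits.Sigma.desc fun j => TMul.homOf (s j)))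
      (Limits.Sigma.desc fun j => TMul.homOf (s j)) (kernel.condition _)).ShortExact :=
    { exact := ShortComplex.exact_of_f_is_kernel _ (kernelIsKernel _) }
  haveI := (CohFinite.shortExact_tmap hP' hS).epi_g
  rw [h00]
  exact epi_comp _ _

end

end Groth.Agent.LeffAmple
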