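import Groth.Agent.KFlat.ClosedImm
import Groth.Agent.LefDiv.Formal
import Groth.Agent.SerrePn.HomTwist
import Groth.Agent.GrothSS.ChangeRings
import Groth.Agent.FormAlg.ModSysTower

/-!
Twisting quotients by invertible modules; lifting compatible families into completions.
-/

set_option autoImplicit false
set_option maxHeartbeats 1000000
set_option linter.style.haveILetI false
set_option linter.unusedSectionVars false
set_option backward.isDefEq.respectTransparency false
set_option backward.isDefEq.respectTransparency.types false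
universe u

namespace Groth.Agent.LeffAmple

open CategoryTheory CategoryTheory.Limits AlgebraicGeometry TopologicalSpace Opposite
open Groth.Agent.CohFinite (tmap)
open Groth.Agent.KFlat (schB)

noncomputable section

variable {X Z : Scheme.{u}}

theorem schB_map_app {M N : X.Modules} (a : M ⟶ N) (L : X.Modules) :
    ((schB X).map a).app L = tmap a L := by
  refine TMul.hom_ext fun U m l => ?_
  refine Eq.trans ?_ (CohFinite.tmap_tm _ _ m l).symm
  let adj := PresheafOfModules.sheafificationAdjunction.{u, u, u, u} (J := Opens.grothendieckTopology X) (𝟙 X.ringCatSheaf.obj)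
  let g := MonoidalCategory.whiskerRight (DCoh.toP.map a) (CohB1.toPMod L)
  exact (congr(($(adj.unit.naturality g)).app (op U) (m ⊗ₜ[Γ(X, U)] l))).symm

/-- The structure module goes to its pushed forward pullback by `unitToPush`. -/
theorem unit_structureModule (f : Z ⟶ X) :
    (Scheme.Modules.pullbackPushforwardAdjunction f).unit.app (Coh.structureModule X) ≫
      (Scheme.Modules.pushforward f).map (PicLoc.pullbackStructureIso f).hom = ClSub.unitToPush f := by
  refine ((Scheme.Modules.pullbackPushforwardAdjunction f).homEquiv_unit _ _ _).symm.trans ?_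
  exact (Equiv.apply_symm_apply _ _).trans (Scheme.Modules.hom_ext _ _ fun U => rfl)

/-- Twisting the restriction map of an invertible module gives that of the structure module. -/
theorem exists_twist_unit (j : Z ⟶ X) [IsClosedImmersion j] {Q Q' : X.Modules}
    (θ : CohB1.tensorMod Q Q' ≅ Coh.structureModule X) :
    ∃ α : CohB1.tensorMod ((Scheme.Modules.pushforward j).obj ((Scheme.Modules.pullback j).obj Q)) Q' ≅
        (Scheme.Modules.pushforward j).obj (Coh.structureModule Z),
      tmap ((Scheme.Modules.pullbackPushforwardAdjunction j).unit.app Q) Q' ≫ α.hom =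
        θ.hom ≫ ClSub.unitToPush j := by
  let adj := Scheme.Modules.pullbackPushforwardAdjunction j
  let T := KFlat.pullTensorIso j Q Q'
  refine ⟨KFlat.projFormulaIso j ((Scheme.Modules.pullback j).obj Q) Q' ≪≫ (Scheme.Modules.pushforward j).mapIso
    (T ≪≫ (Scheme.Modules.pullback j).mapIso θ ≪≫ PicLoc.pullbackStructureIso j), ?_⟩
  have h1 : tmap (adj.unit.app Q) Q' ≫ KFlat.projHom j ((Scheme.Modules.pullback j).obj Q) Q' =
      adj.homEquiv _ _ T.inv := by
    rw [← schB_map_app, KFlat.projHom]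
    refine (adj.homEquiv_naturality_left _ _).symm.trans (congrArg _ ?_)
    have h2 := KFlat.pullTensorIso_natural_left j (adj.unit.app Q) Q'
    have h3 : (Scheme.Modules.pullback j).map (((schB X).map (adj.unit.app Q)).app Q') ≫
        (KFlat.pullTensorIso j _ Q').inv =
        T.inv ≫ ((schB Z).map ((Scheme.Modules.pullback j).map (adj.unit.app Q))).app
          ((Scheme.Modules.pullback j).obj Q') := by
      rw [Iso.comp_inv_eq, Category.assoc, h2]
      exact (Iso.inv_hom_id_assoc T _).symm
    rw [reassoc_of% h3, ← NatTrans.comp_app, ← Functor.map_comp, adj.left_triangle_components,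
      CategoryTheory.Functor.map_id]
    exact Category.comp_id _
  refine (Category.assoc _ _ _).symm.trans ((congrArg (· ≫ _) h1).trans ?_)
  refine (adj.homEquiv_naturality_right _ _).symm.trans ?_
  have e : T.inv ≫ (T ≪≫ (Scheme.Modules.pullback j).mapIso θ ≪≫ PicLoc.pullbackStructureIso j).hom =
      (Scheme.Modules.pullback j).map θ.hom ≫ (PicLoc.pullbackStructureIso j).hom := Iso.inv_hom_id_assoc T _
  rw [e, adj.homEquiv_naturality_left]
  refine congrArg (θ.hom ≫ ·) ?_
  rw [Adjunction.homEquiv_unit]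
  exact unit_structureModule j

variable {I : X.IdealSheafData}

theorem cancel_transition {C D : Type*} [Category C] [Category D] (F : C ⥤ D) {M1 N1 P1 : C} {M2 N2 P2 : D}
    {a : M1 ⟶ N1} {c : N1 ⟶ P1} {ψ' : M1 ⟶ P1} {pM : F.obj M1 ≅ M2} {pN : F.obj N1 ⟶ N2} {b : M2 ⟶ N2}
    {s : N2 ⟶ P2} {e : F.obj P1 ⟶ P2} {ψ : M2 ⟶ P2}
    (nat : F.map a ≫ pN = pM.hom ≫ b) (sp : F.map c ≫ e = pN ≫ s) (hac : a ≫ c = ψ')
    (hψ : F.map ψ' ≫ e = pM.hom ≫ ψ) : b ≫ s = ψ := by
  rw [← cancel_epi pM.hom, ← Category.assoc, ← nat, Category.assoc, ← sp, ← Category.assoc, ← F.map_comp, hac, hψ]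

/-- Adjuncts of a morphism out of a completion are compatible with the transition maps. -/
theorem adjunct_comm (𝔐 : FSch.ModSys (FSch.completionAlong X I)) (F : X.Modules)
    (ψ : ∀ n, (Scheme.Modules.pullback (FSch.completionToX X I n)).obj F ⟶ 𝔐.F n) (n : ℕ)
    (hψ : (Scheme.Modules.pullback ((FSch.completionAlong X I).ι n)).map (ψ (n + 1)) ≫ (𝔐.e n).hom =
      (FormAlg.pullPullIso n F).hom ≫ ψ n) :
    (Scheme.Modules.pullbackPushforwardAdjunction (FSch.completionToX X I (n + 1))).homEquiv _ _ (ψ (n + 1)) ≫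
        FormAlg.sysTn 𝔐 n =
      (Scheme.Modules.pullbackPushforwardAdjunction (FSch.completionToX X I n)).homEquiv _ _ (ψ n) := by
  let adj := Scheme.Modules.pullbackPushforwardAdjunction (FSch.completionToX X I n)
  let adj' := Scheme.Modules.pullbackPushforwardAdjunction (FSch.completionToX X I (n + 1))
  refine (adj.homEquiv _ _).symm.injective ?_
  refine ((adj.homEquiv_naturality_left_symm _ _).trans (congrArg (_ ≫ ·) (Equiv.symm_apply_apply _ _))).trans ?_
  refine Eq.trans ?_ (Equiv.symm_apply_apply _ _).symm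
  exact cancel_transition (Scheme.Modules.pullback ((FSch.completionAlong X I).ι n))
    (a := (Scheme.Modules.pullback (FSch.completionToX X I (n + 1))).map (adj'.homEquiv _ _ (ψ (n + 1)))) (c := adj'.counit.app (𝔐.F (n + 1))) (ψ' := ψ (n + 1))
    (e := (𝔐.e n).hom) (pM := FormAlg.pullPullIso n F) (pN := (FormAlg.pullPullIso n (FormAlg.sysObj 𝔐 (n + 1))).hom)
    (b := (Scheme.Modules.pullback (FSch.completionToX X I n)).map (adj'.homEquiv _ _ (ψ (n + 1))))
    (s := (FormAlg.sysPull 𝔐 n).hom) (ψ := ψ n)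
    (FormAlg.pullPullIso_natural (𝓘 := I) (M := F) (N := FormAlg.sysObj 𝔐 (n + 1)) n (adj'.homEquiv F (𝔐.F (n + 1)) (ψ (n + 1)))) (FormAlg.sysPull_hom 𝔐 n)
    (((adj'.homEquiv_counit F (𝔐.F (n + 1)) _).symm).trans (Equiv.symm_apply_apply _ _)) hψ

/-- Twisting an epimorphic compatible pair. -/
theorem twist_trans {Q Q' M M' G G' : X.Modules} (θ : CohB1.tensorMod Q Q' ≅ Coh.structureModule X)
    (u : Q ⟶ M) (u' : Q ⟶ M') (c : M' ⟶ M) (hu : u' ≫ c = u) (t : Coh.structureModule X ⟶ G)
    (t' : Coh.structureModule X ⟶ G') [Epi t'] (q : G' ⟶ G) (hq : t' ≫ q = t)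
    (α : CohB1.tensorMod M Q' ≅ G) (α' : CohB1.tensorMod M' Q' ≅ G')
    (hα : tmap u Q' ≫ α.hom = θ.hom ≫ t) (hα' : tmap u' Q' ≫ α'.hom = θ.hom ≫ t') :
    (SerrePn.tens Q').map c ≫ α.hom = α'.hom ≫ q := by
  haveI he : Epi (tmap u' Q') := by
    rw [(Iso.eq_comp_inv _).2 hα']
    exact epi_comp _ _
  refine (cancel_epi (tmap u' Q')).1 ?_
  rw [← Category.assoc, show tmap u' Q' ≫ (SerrePn.tens Q').map c = tmap u Q' by
    rw [← hu, CohFinite.tmap_comp]; rfl, hα, ← Category.assoc, hα', Category.assoc, hq]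

/-- The transition maps of the completion of a module. -/
def cTn (M : X.Modules) (n : ℕ) :
    (Scheme.Modules.pushforward (FSch.completionToX X I (n + 1))).obj
        ((Scheme.Modules.pullback (FSch.completionToX X I (n + 1))).obj M) ⟶
      (Scheme.Modules.pushforward (FSch.completionToX X I n)).obj
        ((Scheme.Modules.pullback (FSch.completionToX X I n)).obj M) :=
  FormAlg.sysTn (FSch.completionMod I M) n

theorem unit_cTn (M : X.Modules) (n : ℕ) :
    (Scheme.Modules.pullbackPushforwardAdjunction (FSch.completionToX X I (n + 1))).unit.app M ≫ cTn M n =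
      (Scheme.Modules.pullbackPushforwardAdjunction (FSch.completionToX X I n)).unit.app M := by
  have h := adjunct_comm (FSch.completionMod I M) M (fun n => 𝟙 _) n (by
    rw [CategoryTheory.Functor.map_id]
    exact (Category.id_comp _).trans ((FormAlg.completionMod_e_hom M n).trans (Category.comp_id _).symm))
  exact ((congrArg (· ≫ cTn M n)
    ((Scheme.Modules.pullbackPushforwardAdjunction (FSch.completionToX X I (n + 1))).homEquiv_id M)).symm.trans h).trans
    ((Scheme.Modules.pullbackPushforwardAdjunction (FSch.completionToX X I n)).homEquiv_id M)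

theorem untwist_eq {P Q Q' M G : X.Modules} (hQ' : PicF.IsInvertible Q')
    (θ : CohB1.tensorMod Q Q' ≅ Coh.structureModule X) (φ : P ⟶ Q) (ψ : CohB1.tensorMod P Q' ⟶ Coh.structureModule X)
    (hφ : (SerrePn.tens Q').map φ = ψ ≫ θ.inv) (u : Q ⟶ M) (y : P ⟶ M) (α : CohB1.tensorMod M Q' ≅ G)
    (t : Coh.structureModule X ⟶ G) (hα : tmap u Q' ≫ α.hom = θ.hom ≫ t) (hψ : ψ ≫ t = tmap y Q' ≫ α.hom) :
    φ ≫ u = y := by
  refine Higgs.tmap_injective hQ' ((cancel_mono α.hom).1 ?_)
  rw [CohFinite.tmap_comp, Category.assoc, hα, show tmap φ Q' = ψ ≫ θ.inv from hφ, Category.assoc,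
    θ.inv_hom_id_assoc, hψ]

/-- Compatible families into the completion of an invertible module lift. -/
theorem exists_lift_completion {P Q Q' : X.Modules} (hQ' : PicF.IsInvertible Q')
    (θ : CohB1.tensorMod Q Q' ≅ Coh.structureModule X)
    (h : Lef.HomToFormalBijective I (CohB1.tensorMod P Q'))
    (y : ∀ n, P ⟶ (Scheme.Modules.pushforward (FSch.completionToX X I n)).obj
      ((Scheme.Modules.pullback (FSch.completionToX X I n)).obj Q))
    (hy : ∀ n, y (n + 1) ≫ cTn Q n = y n) :
    ∃ φ : P ⟶ Q, ∀ n, φ ≫ (Scheme.Modules.pullbackPushforwardAdjunction (FSch.completionToX X I n)).unit.app Q =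
      y n := by
  choose α hα using fun n => exists_twist_unit (I ^ (n + 1)).subschemeι θ
  let T := SerrePn.tens Q'
  obtain ⟨ψ, hψ⟩ := h.2 (fun n => T.map (y n) ≫ (α n).hom) fun n => by
    haveI : Epi (ClSub.toSubscheme (I ^ (n + 1 + 1))) := CurveRR.ideal_shortExact (I ^ (n + 1 + 1)) |>.epi_g
    rw [Category.assoc, ← twist_trans θ _ _ (cTn Q n) (unit_cTn Q n) _ _ _
      (LefDiv.toSubscheme_quotMap (Lef.pow_succ_le I n)) (α n) (α (n + 1)) (hα n) (hα (n + 1)), ← Category.assoc]
    exact congrArg (· ≫ (α n).hom) ((T.map_comp _ _).symm.trans (congrArg T.map (hy n)))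
  haveI : (SerrePn.tens Q').Full :=
    (SerrePn.tensEquiv (TMul.commIso _ _ ≪≫ θ) θ).fullyFaithfulFunctor.full
  obtain ⟨φ, hφ⟩ := T.map_surjective (ψ ≫ θ.inv)
  exact ⟨φ, fun n => untwist_eq hQ' θ φ ψ hφ _ (y n) (α n) _ (hα n) (hψ n)⟩

end

end Groth.Agent.LeffAmple
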