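import Groth.Agent.LeffAmple.Stalk
import Groth.Agent.DCohLocus.FreeLocus
import Groth.Agent.RegDual.Scheme

/-!
A coherent module with locally free completion is locally free near the closed subscheme.
-/

set_option autoImplicit false
set_option maxHeartbeats 1000000
set_option linter.style.haveILetI false
set_option linter.unusedSectionVars false
set_option backward.isDefEq.respectTransparency false
set_option backward.isDefEq.respectTransparency.types false
universe u

namespace Groth.Agent.LeffAmple

open CategoryTheory CategoryTheory.Limits AlgebraicGeometry TopologicalSpace Opposite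
open Groth.Agent.K0Dev (St)
open scoped TensorProduct

noncomputable section

/-- A finite module free modulo all powers of an ideal is free. -/
theorem free_of_levels {R : Type u} [CommRing R] [IsLocalRing R] [IsNoetherianRing R] {M : Type u}
    [AddCommGroup M] [Module R M] [Module.Finite R M] (J : Ideal R) (hJ : J ≤ IsLocalRing.maximalIdeal R)
    (h : ∀ n : ℕ, ∃ (S : Type u) (_ : CommRing S) (φ : R →+* S) (N : Type u) (_ : AddCommGroup N) (_ : Module S N)
      (g : M →+ N), Function.Surjective φ ∧ RingHom.ker φ = J ^ (n + 1) ∧ Module.Free S N ∧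
        (∀ (a : R) (v : M), g (a • v) = φ a • g v) ∧ Function.Surjective g ∧
        ∀ v, g v = 0 → v ∈ J ^ (n + 1) • (⊤ : Submodule R M)) :
    Module.Free R M := by
  classical
  let 𝔪 := IsLocalRing.maximalIdeal R
  let K := IsLocalRing.ResidueField R
  let b := Module.Free.chooseBasis K (K ⊗[R] M)
  have hlift : Function.Surjective (TensorProduct.mk R K M 1) :=
    TensorProduct.mk_surjective _ _ _ Ideal.Quotient.mk_surjective
  choose x hx using fun i => hlift (b i)
  have hspan : Submodule.span R (Set.range x) = ⊤ := IsLocalRing.span_eq_top_of_tmul_eq_basis x b hx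
  have hind : ∀ (n : ℕ) (c : Module.Free.ChooseBasisIndex K (K ⊗[R] M) → R), ∑ i, c i • x i = 0 →
      ∀ i, c i ∈ J ^ (n + 1) := by
    intro n c hc
    obtain ⟨S, hS, φ, N, hN, hSN, g, hφ, hker, hfree, hg, hgs, hgk⟩ := h n
    letI := φ.toAlgebra
    haveI : Nontrivial S := by
      refine nontrivial_of_ne (φ 1) (φ 0) fun e => ?_
      have h1 : (1 : R) ∈ RingHom.ker φ := by rw [RingHom.mem_ker, e, map_zero]
      rw [hker] at h1
      exact (IsLocalRing.maximalIdeal.isMaximal R).ne_top ((Ideal.eq_top_iff_one _).2
        (hJ (Ideal.pow_le_self (Nat.succ_ne_zero n) h1)))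
    haveI : IsLocalRing S := IsLocalRing.of_surjective' φ hφ
    have hv : Submodule.span S (Set.range fun i => g (x i)) = ⊤ := by
      rw [eq_top_iff]
      rintro v -
      obtain ⟨m, rfl⟩ := hgs v
      have hm : m ∈ Submodule.span R (Set.range x) := hspan ▸ Submodule.mem_top
      induction hm using Submodule.span_induction with
      | mem y hy => obtain ⟨i, rfl⟩ := hy; exact Submodule.subset_span ⟨i, rfl⟩
      | zero => rw [map_zero]; exact zero_mem _
      | add y z _ _ hy hz => rw [map_add]; exact add_mem hy hz
      | smul a y _ hy => rw [hg]; exact Submodule.smul_mem _ _ hy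
    haveI : Module.Finite S N := ⟨⟨Finset.univ.image fun i => g (x i), by
      rw [Finset.coe_image, Finset.coe_univ, Set.image_univ]; exact hv⟩⟩
    haveI := hfree
    haveI : Module.FinitePresentation S N := Module.finitePresentation_of_projective S N
    obtain ⟨κ, a, β, hβ⟩ := Module.exists_basis_of_span_of_flat (fun i => g (x i)) hv
    have ha : Function.Injective a := fun i j hij => β.injective ((hβ i).trans ((congrArg (fun k => g (x k)) hij).trans (hβ j).symm))
    have hsurj : Function.Surjective a := by
      intro i₀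
      by_contra hno
      haveI : Fintype κ := Fintype.ofInjective a ha
      choose r hr using fun k => hφ (β.repr (g (x i₀)) k)
      have h0 : g (x i₀ - ∑ k, r k • x (a k)) = 0 := by
        rw [map_sub, map_sum, sub_eq_zero]
        conv_lhs => rw [← β.sum_repr (g (x i₀))]
        exact Finset.sum_congr rfl fun k _ => by rw [hg, hr, hβ]
      have h1 : (1 : K) ⊗ₜ[R] (x i₀ - ∑ k, r k • x (a k)) = 0 := by
        have h2 : x i₀ - ∑ k, r k • x (a k) ∈ 𝔪 • (⊤ : Submodule R M) :=
          Submodule.smul_mono_left ((Ideal.pow_le_self (Nat.succ_ne_zero n)).trans hJ) (hgk _ h0)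
        rw [← LinearMap.ker_tensorProductMk] at h2
        exact h2
      rw [TensorProduct.tmul_sub, TensorProduct.tmul_sum, sub_eq_zero] at h1
      have h3 : b i₀ ∈ Submodule.span K (b '' Set.range a) := by
        rw [← hx i₀]
        show (1 : K) ⊗ₜ[R] x i₀ ∈ _
        rw [h1]
        refine Submodule.sum_mem _ fun k _ => ?_
        rw [TensorProduct.tmul_smul]
        exact Submodule.smul_of_tower_mem _ _ (Submodule.subset_span ⟨a k, ⟨k, rfl⟩, (hx (a k)).symm⟩)
      have hi : i₀ ∉ Set.range a := fun hk => hno hk
      exact b.linearIndependent.notMem_span_image hi h3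
    let e := Equiv.ofBijective a ⟨ha, hsurj⟩
    have hli : LinearIndependent S fun i => g (x i) := by
      have h5 := β.linearIndependent.comp e.symm e.symm.injective
      convert h5 using 1
      funext i
      show g (x i) = β (e.symm i)
      rw [hβ]
      exact congrArg (fun k => g (x k)) (e.apply_symm_apply i).symm
    intro i
    have h4 := Fintype.linearIndependent_iff.1 hli (fun j => φ (c j)) (by
      calc ∑ j, φ (c j) • g (x j) = g (∑ j, c j • x j) := by
            rw [map_sum]; exact Finset.sum_congr rfl fun j _ => (hg _ _).symm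
        _ = 0 := by rw [hc, map_zero]) i
    rw [← hker]
    exact h4
  have hli : LinearIndependent R x := by
    rw [Fintype.linearIndependent_iff]
    intro c hc i
    have hbot := Ideal.iInf_pow_eq_bot_of_isLocalRing J
      (ne_top_of_le_ne_top (IsLocalRing.maximalIdeal.isMaximal R).ne_top hJ)
    rw [← Ideal.mem_bot, ← hbot, Ideal.mem_iInf]
    exact fun n => Ideal.pow_le_pow_right (Nat.le_succ n) (hind n c hc i)
  exact Module.Free.of_basis (Module.Basis.mk hli hspan.ge)

variable {X : Scheme.{u}} [IsLocallyNoetherian X] {I : X.IdealSheafData}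

/-- Near the subscheme a coherent module with levelwise locally free completion is locally free. -/
theorem exists_free_nhd (hI : BlowUp.IsEffCartierIdeal I) {E : X.Modules} (hE : Coh.IsCoh E)
    (h : ∀ n, FlatMod.IsFinLocFree ((Scheme.Modules.pullback (FSch.completionToX X I n)).obj E)) :
    ∃ U : X.Opens, (I.support : Set X) ⊆ (U : Set X) ∧ FlatMod.IsFinLocFree (E.restrict U.ι) := by
  haveI := hE.1
  have hfp : CohB1.IsFP E := QC.isFP_of_isQCoh_of_isFT (hM := hE.1) hE.2
  have hfree : ∀ x ∈ (I.support : Set X), DCohLocus.FreeAt E x := by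
    intro x hx
    obtain ⟨ε⟩ := exists_eqn hI x
    haveI : Module.Finite (X.presheaf.stalk x) (E.presheaf.stalk x) := RegDual.finite_stalk hE x
    refine ⟨free_of_levels (Ideal.span {ε.γ}) ?_ fun n => ?_, inferInstance⟩
    · obtain ⟨z, rfl⟩ := mem_range (I := I) 0 hx
      rw [show Ideal.span {ε.γ} = RingHom.ker ((I ^ (0 + 1)).subschemeι.stalkMap z).hom by
        rw [ε.ker_stalkMap 0 z]; exact congrArg (fun t => Ideal.span {t}) (pow_one ε.γ).symm]
      exact IsLocalRing.le_maximalIdeal (RingHom.ker_ne_top _)
    · obtain ⟨z, rfl⟩ := mem_range (I := I) n hx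
      let j := FSch.completionToX X I n
      refine ⟨_, inferInstance, (j.stalkMap z).hom, _, inferInstance, inferInstance, KFlat.kap j z E,
        j.stalkMap_surjective z, ?_, LocFree.free_stalk_of_isFinLocFree (h n) z, KFlat.kap_smul j z E,
        GrothSS.kap_surjective j z E, fun v hv => ?_⟩
      · rw [Ideal.span_singleton_pow]
        exact ε.ker_stalkMap n z
      · have := (kap_eq_zero_iff j z E v).1 hv
        rw [Ideal.span_singleton_pow, ← ε.ker_stalkMap n z]
        exact this
  choose U hxU hU using fun x : I.support => DCohLocus.exists_free_near E hE.1 hfp (hfree x.1 x.2)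
  refine ⟨⨆ x, U x, fun x hx => Opens.mem_iSup.2 ⟨⟨x, hx⟩, hxU ⟨x, hx⟩⟩, ?_⟩
  let V := ⨆ x, U x
  have hEV : Coh.IsQCoh (E.restrict V.ι) := (inferInstance : (E.restrict V.ι).IsQuasicoherent)
  have hFP : CohB1.IsFP (E.restrict V.ι) :=
    QC.isFP_of_isQCoh_of_isFT (hM := hEV) (QC.isFT_restrict V.ι hE.2)
  refine LocFree.isFinLocFree_of_isFP_of_flat hEV hFP fun y => ?_
  obtain ⟨x, hx⟩ := Opens.mem_iSup.1 y.2
  have h1 : DCohLocus.FreeAt E y.1 :=
    (DCohLocus.freeAt_restrict_iff E (U x) ⟨y.1, hx⟩).1 (DCohLocus.freeAt_of_isFinLocFree (hU x) _)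
  haveI := ((DCohLocus.freeAt_restrict_iff E V y).2 h1).1
  exact (inferInstance : Module.Flat ((V : Scheme.{u}).presheaf.stalk y) ((E.restrict V.ι).presheaf.stalk y))

end

end Groth.Agent.LeffAmple
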