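import Groth.Agent.FormAlg.ModSysTower
import Groth.Agent.CycK0.Killed
import Groth.Agent.KFlat.ClosedImm
import Groth.Agent.GrothSS.ChangeRings
import Groth.Agent.ThickInv.Alg
import Groth.Agent.LefRel.Bound
import Groth.Agent.CMFlat.Local
import Groth.Agent.LocFree.Props

/-!
Stalks of the levels of a locally free system along an effective Cartier divisor.
-/

set_option autoImplicit false
set_option maxHeartbeats 1000000
set_option linter.style.haveILetI false
set_option linter.unusedSectionVars false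
set_option backward.isDefEq.respectTransparency false
set_option backward.isDefEq.respectTransparency.types false
universe u

namespace Groth.Agent.LeffAmple

open CategoryTheory CategoryTheory.Limits AlgebraicGeometry TopologicalSpace Opposite
open Groth.Agent.K0Dev (St)
open scoped TensorProduct

noncomputable section

variable {X Z : Scheme.{u}} (f : Z ⟶ X) [IsClosedImmersion f] (z : Z)

theorem kap_eq_zero_iff (M : X.Modules) (m : M.presheaf.stalk (f.base z)) :
    KFlat.kap f z M m = 0 ↔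
      m ∈ RingHom.ker (f.stalkMap z).hom • (⊤ : Submodule (X.presheaf.stalk (f.base z)) (M.presheaf.stalk (f.base z))) := by
  constructor
  · intro h
    obtain ⟨g, hg⟩ := KFlat.exists_pull_stalk_desc f z M
      (P := (ModuleCat.extendScalars.{u, u, u} (f.stalkMap z).hom).obj ((St (f.base z)).obj M))
      ((ModuleCat.extendRestrictScalarsAdj.{u} (f.stalkMap z).hom).unit.app _)
    letI := (f.stalkMap z).hom.toAlgebra
    refine ThickInv.mem_smul_top_of_one_tmul_eq_zero (S := Z.presheaf.stalk z) (f.stalkMap_surjective z) rfl ?_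
    refine (hg m).symm.trans ?_
    exact (congrArg g.hom h).trans (map_zero g.hom)
  · intro h
    refine Submodule.smul_induction_on h (fun a ha m _ => ?_) fun a b ha hb => ?_
    · refine (KFlat.kap_smul f z M a m).trans ?_
      rw [show (f.stalkMap z).hom a = 0 from ha]
      exact zero_smul (Z.presheaf.stalk z) (KFlat.kap f z M m)
    · exact (map_add (KFlat.kap f z M) a b).trans ((congrArg₂ (· + ·) ha hb).trans (add_zero _))

theorem pushStalk_adjunct {G : X.Modules} {F : Z.Modules} (ψ : (Scheme.Modules.pullback f).obj G ⟶ F)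
    (m : G.presheaf.stalk (f.base z)) :
    KFlat.pushStalk f z F (((St (f.base z)).map
        ((Scheme.Modules.pullbackPushforwardAdjunction f).homEquiv _ _ ψ)).hom m) =
      ((St z).map ψ).hom (KFlat.kap f z G m) := by
  obtain ⟨U, hU, s, rfl⟩ := KFlat.exists_pgerm (DCoh.toP.obj G) (f.base z) m
  refine (congrArg (KFlat.pushStalk f z F) (KFlat.pstMap_germ (DCoh.toP.map _) _ hU s)).trans ?_
  refine (KFlat.pushStalk_germ f z F U hU _).trans ?_
  refine Eq.trans ?_ (congrArg ((St z).map ψ).hom (KFlat.kap_germ f z G U hU s)).symm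
  refine Eq.trans ?_ (KFlat.pstMap_germ (DCoh.toP.map ψ) z hU _).symm
  refine congrArg (KFlat.pgerm (DCoh.toP.obj F) z (f ⁻¹ᵁ U) hU) ?_
  rw [Adjunction.homEquiv_unit]
  rfl

/-- Adjuncts of isomorphisms on stalks. -/
theorem adjunct_stalk {G : X.Modules} {F : Z.Modules} (ψ : (Scheme.Modules.pullback f).obj G ≅ F) :
    Function.Surjective ((St (f.base z)).map
        ((Scheme.Modules.pullbackPushforwardAdjunction f).homEquiv _ _ ψ.hom)).hom ∧
      ∀ m : G.presheaf.stalk (f.base z), ((St (f.base z)).map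
          ((Scheme.Modules.pullbackPushforwardAdjunction f).homEquiv _ _ ψ.hom)).hom m = 0 ↔
        m ∈ RingHom.ker (f.stalkMap z).hom • (⊤ : Submodule (X.presheaf.stalk (f.base z)) (G.presheaf.stalk (f.base z))) := by
  let e := ((St z).mapIso ψ).toLinearEquiv
  refine ⟨fun v => ?_, fun m => ?_⟩
  · obtain ⟨w, hw⟩ := GrothSS.kap_surjective f z G (e.symm (KFlat.pushStalk f z F v))
    refine ⟨w, (KFlat.pushStalk_bijective f z F).1 ((pushStalk_adjunct f z ψ.hom w).trans ?_)⟩
    exact (congrArg e hw).trans (e.apply_symm_apply _)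
  · rw [← kap_eq_zero_iff f z G m]
    have h := pushStalk_adjunct f z ψ.hom m
    constructor
    · intro h0
      refine e.map_eq_zero_iff.1 (h.symm.trans ?_)
      exact (congrArg (KFlat.pushStalk f z F) h0).trans (map_zero _)
    · intro h0
      refine (KFlat.pushStalk_bijective f z F).1 (h.trans ?_)
      exact ((congrArg ((St z).map ψ.hom).hom h0).trans (map_zero _)).trans (map_zero (KFlat.pushStalk f z F)).symm

end

end Groth.Agent.LeffAmple

namespace Groth.Agent.LeffAmple

open CategoryTheory CategoryTheory.Limits AlgebraicGeometry TopologicalSpace Opposite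
open Groth.Agent.K0Dev (St)
open FormAlg (sysObj sysTn sysPull sysFun)

noncomputable section

variable {X : Scheme.{u}} {I : X.IdealSheafData}

/-- A local equation of the ideal, in the stalk. -/
structure Eqn (I : X.IdealSheafData) (x : X) where
  U : X.affineOpens
  mem : x ∈ U.1
  g : Γ(X, U.1)
  span : I.ideal U = Ideal.span {g}
  reg : IsSMulRegular (X.presheaf.stalk x) ((X.presheaf.germ U.1 x mem).hom g)

/-- The equation in the stalk. -/
def Eqn.γ {x : X} (ε : Eqn I x) : X.presheaf.stalk x := (X.presheaf.germ ε.U.1 x ε.mem).hom ε.g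

theorem exists_eqn (hI : BlowUp.IsEffCartierIdeal I) (x : X) : Nonempty (Eqn I x) := by
  obtain ⟨U, hx, g, -, hg⟩ := hI x
  obtain ⟨eJ, he⟩ := LefRel.exists_stalk_generator I ((Groth.Agent.S8914.result I).2 hI) U x hx g hg
  refine ⟨⟨U, hx, g, hg, ?_⟩⟩
  have hinj : Function.Injective (CompInt.istalk I x) := (CompInt.sE x).symm.injective.comp
    ((ModuleCat.mono_iff_injective ((St x).map (ClSub.idealModι I))).1
      (haveI : Mono (ClSub.idealModι I) := inferInstanceAs (Mono (kernel.ι _)); inferInstance))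
  intro a b hab
  refine eJ.injective (hinj ?_)
  rw [← mul_one a, ← mul_one b, ← smul_eq_mul a, ← smul_eq_mul b, map_smul, map_smul, map_smul, map_smul, he,
    smul_eq_mul, smul_eq_mul, mul_comm a, mul_comm b]
  exact hab

theorem Eqn.ker_stalkMap (m : ℕ) (z : (I ^ (m + 1)).subscheme) (ε : Eqn I ((I ^ (m + 1)).subschemeι.base z)) :
    RingHom.ker (((I ^ (m + 1)).subschemeι.stalkMap z)).hom = Ideal.span {ε.γ ^ (m + 1)} := by
  rw [CMFlat.ker_stalkMap_eq (I ^ (m + 1)).subschemeι z ε.U ε.mem,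
    Scheme.IdealSheafData.ker_subschemeι_app, Scheme.IdealSheafData.ideal_pow, Pi.pow_apply, ε.span,
    Ideal.span_singleton_pow, Ideal.map_span, Set.image_singleton, map_pow]
  rfl

variable (𝔐 : FSch.ModSys (FSch.completionAlong X I))

/-- The composite transition map. -/
def tr {a b : ℕ} (h : a ≤ b) : sysObj 𝔐 b ⟶ sysObj 𝔐 a := (sysFun 𝔐).map (homOfLE h).op

theorem tr_succ (n : ℕ) : tr 𝔐 (Nat.le_succ n) = sysTn 𝔐 n :=
  Functor.ofOpSequence_map_homOfLE_succ _ n

theorem tr_refl (n : ℕ) : tr 𝔐 (le_refl n) = 𝟙 (sysObj 𝔐 n) := (sysFun 𝔐).map_id (op n)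

theorem tr_comp {a b c : ℕ} (h : a ≤ b) (h' : b ≤ c) : tr 𝔐 h' ≫ tr 𝔐 h = tr 𝔐 (h.trans h') :=
  ((sysFun 𝔐).map_comp _ _).symm

theorem subsingleton_stalk {x : X} (n : ℕ) (hx : x ∉ (I.support : Set X)) :
    Subsingleton ((sysObj 𝔐 n).presheaf.stalk x) := by
  refine KFlat.subsingleton_stalk_push (FSch.completionToX X I n) (𝔐.F n) ?_
  show x ∉ Set.range (I ^ (n + 1)).subschemeι
  rw [Scheme.IdealSheafData.range_subschemeι, Scheme.IdealSheafData.support_pow _ _ (Nat.succ_ne_zero _)]
  exact hx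

theorem mem_range (n : ℕ) {x : X} (hx : x ∈ (I.support : Set X)) :
    ∃ z : (I ^ (n + 1)).subscheme, (I ^ (n + 1)).subschemeι.base z = x := by
  rw [← Set.mem_range, Scheme.IdealSheafData.range_subschemeι,
    Scheme.IdealSheafData.support_pow _ _ (Nat.succ_ne_zero _)]
  exact hx

theorem mem_span_smul_top {R M : Type u} [CommRing R] [AddCommGroup M] [Module R M] (c : R) (v : M) :
    v ∈ Ideal.span {c} • (⊤ : Submodule R M) ↔ ∃ w : M, v = c • w := by
  rw [Submodule.ideal_span_singleton_smul]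
  constructor
  · rintro ⟨w, -, rfl⟩; exact ⟨w, rfl⟩
  · rintro ⟨w, rfl⟩; exact ⟨w, trivial, rfl⟩

variable {𝔐} {x : X} (ε : Eqn I x)

theorem sysTn_stalk (n : ℕ) :
    Function.Surjective ((St x).map (sysTn 𝔐 n)).hom ∧
      ∀ v : (sysObj 𝔐 (n + 1)).presheaf.stalk x, ((St x).map (sysTn 𝔐 n)).hom v = 0 ↔ ∃ w, v = ε.γ ^ (n + 1) • w := by
  by_cases hx : x ∈ (I.support : Set X)
  · obtain ⟨z, rfl⟩ := mem_range n hx
    have hk := ε.ker_stalkMap n z
    obtain ⟨h1, h2⟩ := adjunct_stalk (FSch.completionToX X I n) z (sysPull 𝔐 n)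
    refine ⟨h1, fun v => (h2 v).trans ?_⟩
    rw [← mem_span_smul_top]
    exact iff_of_eq (congrArg (fun J : Ideal _ => v ∈ J • (⊤ : Submodule _ _)) hk)
  · haveI := subsingleton_stalk 𝔐 n hx
    haveI := subsingleton_stalk 𝔐 (n + 1) hx
    exact ⟨fun v => ⟨0, Subsingleton.elim (α := (sysObj 𝔐 n).presheaf.stalk x) _ _⟩,
      fun v => ⟨fun _ => ⟨0, Subsingleton.elim _ _⟩, fun _ => Subsingleton.elim (α := (sysObj 𝔐 n).presheaf.stalk x) _ _⟩⟩

theorem tr_stalk {a b : ℕ} (h : a ≤ b) :
    Function.Surjective ((St x).map (tr 𝔐 h)).hom ∧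
      ∀ v : (sysObj 𝔐 b).presheaf.stalk x, ((St x).map (tr 𝔐 h)).hom v = 0 →
        ∃ w, v = ε.γ ^ (a + 1) • w := by
  induction b, h using Nat.le_induction with
  | base =>
    rw [tr_refl, CategoryTheory.Functor.map_id]
    exact ⟨fun v => ⟨v, rfl⟩, fun v hv => ⟨0, (show v = 0 from hv).trans (smul_zero _).symm⟩⟩
  | succ b hab ih =>
    obtain ⟨i1, i2⟩ := ih
    obtain ⟨s1, s2⟩ := sysTn_stalk (𝔐 := 𝔐) ε b
    have e : ∀ v, ((St x).map (tr 𝔐 (hab.trans (Nat.le_succ b)))).hom v =
        ((St x).map (tr 𝔐 hab)).hom (((St x).map (sysTn 𝔐 b)).hom v) := fun v => by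
      rw [← tr_comp 𝔐 hab (Nat.le_succ b), tr_succ, Functor.map_comp]
      rfl
    refine ⟨fun u => ?_, fun v hv => ?_⟩
    · obtain ⟨w, rfl⟩ := i1 u
      obtain ⟨v, rfl⟩ := s1 w
      exact ⟨v, e v⟩
    · obtain ⟨w, hw⟩ := i2 _ ((e v).symm.trans hv)
      obtain ⟨w₀, rfl⟩ := s1 w
      let w' : (sysObj 𝔐 (b + 1)).presheaf.stalk x := w₀
      obtain ⟨w'', hw''⟩ := (s2 (v - ε.γ ^ (a + 1) • w')).1 (by
        rw [map_sub, map_smul, hw, sub_self])
      refine ⟨w' + ε.γ ^ (b - a) • w'', ?_⟩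
      rw [smul_add, smul_smul, ← pow_add, show a + 1 + (b - a) = b + 1 by omega, ← hw'', add_sub_cancel]

theorem pow_smul_eq_zero (m : ℕ) (v : (sysObj 𝔐 m).presheaf.stalk x) : ε.γ ^ (m + 1) • v = 0 := by
  by_cases hx : x ∈ (I.support : Set X)
  · obtain ⟨z, rfl⟩ := mem_range m hx
    have hk := ε.ker_stalkMap m z
    refine (KFlat.pushStalk_bijective (FSch.completionToX X I m) z (𝔐.F m)).1 ?_
    refine ((KFlat.pushStalk_smul (FSch.completionToX X I m) z (𝔐.F m) _ v).trans ?_).trans
      (map_zero (KFlat.pushStalk (FSch.completionToX X I m) z (𝔐.F m))).symm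
    have h0 : ε.γ ^ (m + 1) ∈ RingHom.ker ((I ^ (m + 1)).subschemeι.stalkMap z).hom := by
      rw [hk]; exact Ideal.mem_span_singleton_self _
    rw [RingHom.mem_ker] at h0
    refine (congrArg (· • KFlat.pushStalk (FSch.completionToX X I m) z (𝔐.F m) v) h0).trans ?_
    exact zero_smul _ _
  · haveI := subsingleton_stalk 𝔐 m hx
    exact Subsingleton.elim _ _

/-- Locally free levels: annihilators of powers of the equation. -/
theorem exists_of_pow_smul_eq_zero (h𝔐 : ∀ n, FlatMod.IsFinLocFree (𝔐.F n)) {i k m : ℕ} (hik : i + k = m + 1)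
    (v : (sysObj 𝔐 m).presheaf.stalk x) (hv : ε.γ ^ i • v = 0) : ∃ w, v = ε.γ ^ k • w := by
  by_cases hx : x ∈ (I.support : Set X)
  · obtain ⟨z, rfl⟩ := mem_range m hx
    have hk := ε.ker_stalkMap m z
    let j := FSch.completionToX X I m
    let φ := (j.stalkMap z).hom
    haveI := LocFree.free_stalk_of_isFinLocFree (h𝔐 m) z
    let b := Module.Free.chooseBasis ((FSch.completionAlong X I).X m |>.presheaf.stalk z) ((𝔐.F m).presheaf.stalk z)
    let p := KFlat.pushStalk j z (𝔐.F m)
    let w : (𝔐.F m).presheaf.stalk z := p v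
    have hw : φ (ε.γ ^ i) • w = 0 := by
      refine (KFlat.pushStalk_smul j z (𝔐.F m) (ε.γ ^ i) v).symm.trans ?_
      exact (congrArg p hv).trans (map_zero p)
    have hc : ∀ a : X.presheaf.stalk (j.base z), φ (ε.γ ^ i) * φ a = 0 → ∃ c, φ a = φ (ε.γ ^ k) * φ c := by
      intro a ha
      rw [← map_mul, ← RingHom.mem_ker] at ha
      change ε.γ ^ i * a ∈ RingHom.ker ((I ^ (m + 1)).subschemeι.stalkMap z).hom at ha
      rw [hk, Ideal.mem_span_singleton] at ha
      obtain ⟨c, hc⟩ := ha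
      refine ⟨c, ?_⟩
      rw [← map_mul]
      refine congrArg φ ((ε.reg.pow i : IsSMulRegular _ (ε.γ ^ i)) ?_)
      show ε.γ ^ i * a = ε.γ ^ i * (ε.γ ^ k * c)
      rw [← mul_assoc, ← pow_add, hik]
      exact hc
    have hcoord : ∀ l, ∃ c, b.repr w l = φ (ε.γ ^ k) * c := fun l => by
      obtain ⟨a, ha⟩ := (j.stalkMap_surjective z) (b.repr w l)
      obtain ⟨c, hc'⟩ := hc a (by
        have h1 := congrArg (fun t => b.repr t l) hw
        simp only [map_smul, map_zero, Finsupp.smul_apply, smul_eq_mul, Finsupp.coe_zero, Pi.zero_apply] at h1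
        rw [show φ a = b.repr w l from ha]
        exact h1)
      exact ⟨φ c, ha.symm.trans hc'⟩
    choose c hc' using hcoord
    let w' : (𝔐.F m).presheaf.stalk z := ∑ l ∈ (b.repr w).support, c l • b l
    have hw' : w = φ (ε.γ ^ k) • w' := by
      conv_lhs => rw [← b.linearCombination_repr w, Finsupp.linearCombination_apply, Finsupp.sum]
      rw [Finset.smul_sum]
      exact Finset.sum_congr rfl fun l _ => by rw [smul_smul, ← hc' l]
    obtain ⟨u, hu⟩ := (KFlat.pushStalk_bijective j z (𝔐.F m)).2 w'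
    refine ⟨u, (KFlat.pushStalk_bijective j z (𝔐.F m)).1 ?_⟩
    refine hw'.trans (Eq.trans ?_ (KFlat.pushStalk_smul j z (𝔐.F m) (ε.γ ^ k) u).symm)
    exact congrArg (φ (ε.γ ^ k) • ·) hu.symm
  · haveI := subsingleton_stalk 𝔐 m hx
    exact ⟨0, Subsingleton.elim _ _⟩

end

end Groth.Agent.LeffAmple
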