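import Groth.Agent.LeffAmple.Levels
import Groth.Agent.LeffAmple.Stalk
import Mathlib.CategoryTheory.Preadditive.Biproducts

/-!
Lifting compatible families between sums of twists; cokernels as algebraizations.
-/

set_option autoImplicit false
set_option maxHeartbeats 1000000
set_option linter.style.haveILetI false
set_option linter.unusedSectionVars false
set_option backward.isDefEq.respectTransparency false
set_option backward.isDefEq.respectTransparency.types false
universe u

namespace Groth.Agent.LeffAmple

open CategoryTheory CategoryTheory.Limits AlgebraicGeometry TopologicalSpace Opposite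

noncomputable section

variable {X : Scheme.{u}} (I : X.IdealSheafData)

/-- The restriction map to a thickening, pushed forward. -/
def cUnit (M : X.Modules) (n : ℕ) :
    M ⟶ (Scheme.Modules.pushforward (FSch.completionToX X I n)).obj
      ((Scheme.Modules.pullback (FSch.completionToX X I n)).obj M) :=
  (Scheme.Modules.pullbackPushforwardAdjunction (FSch.completionToX X I n)).unit.app M

instance epi_cUnit (M : X.Modules) (n : ℕ) : Epi (cUnit I M n) := by
  refine Preadditive.epi_of_isZero_cokernel _ (KFlat.isZero_of_stalks _ fun x => ?_)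
  have hsurj : Function.Surjective ((K0Dev.St x).map (cUnit I M n)).hom := by
    by_cases hx : x ∈ Set.range (FSch.completionToX X I n).base
    · obtain ⟨z, rfl⟩ := hx
      have h := adjunct_stalk (FSch.completionToX X I n) z
        (Iso.refl ((Scheme.Modules.pullback (FSch.completionToX X I n)).obj M))
      have e : (Scheme.Modules.pullbackPushforwardAdjunction (FSch.completionToX X I n)).homEquiv M _
          (Iso.refl _).hom = cUnit I M n := Adjunction.homEquiv_id _ _
      exact e ▸ h.1
    · haveI : Subsingleton (((Scheme.Modules.pushforward (FSch.completionToX X I n)).obj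
          ((Scheme.Modules.pullback (FSch.completionToX X I n)).obj M)).presheaf.stalk x) :=
        KFlat.subsingleton_stalk_push _ _ hx
      exact fun v => ⟨0, Subsingleton.elim (α := ((Scheme.Modules.pushforward (FSch.completionToX X I n)).obj
        ((Scheme.Modules.pullback (FSch.completionToX X I n)).obj M)).presheaf.stalk x) _ _⟩
  haveI : Epi ((K0Dev.St x).map (cUnit I M n)) := (ModuleCat.epi_iff_surjective _).2 hsurj
  exact IsZero.of_epi_eq_zero ((K0Dev.St x).map (cokernel.π (cUnit I M n)))
    ((cancel_epi ((K0Dev.St x).map (cUnit I M n))).1 (by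
      rw [← Functor.map_comp, cokernel.condition, Functor.map_zero, comp_zero]))

theorem cUnit_natural {M N : X.Modules} (f : M ⟶ N) (n : ℕ) :
    cUnit I M n ≫ (Scheme.Modules.pushforward (FSch.completionToX X I n)).map
        ((Scheme.Modules.pullback (FSch.completionToX X I n)).map f) = f ≫ cUnit I N n :=
  ((Scheme.Modules.pullbackPushforwardAdjunction (FSch.completionToX X I n)).unit.naturality f).symm

theorem cTn_natural {M N : X.Modules} (f : M ⟶ N) (n : ℕ) :
    (Scheme.Modules.pushforward (FSch.completionToX X I (n + 1))).map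
        ((Scheme.Modules.pullback (FSch.completionToX X I (n + 1))).map f) ≫ cTn N n =
      cTn M n ≫ (Scheme.Modules.pushforward (FSch.completionToX X I n)).map
        ((Scheme.Modules.pullback (FSch.completionToX X I n)).map f) := by
  rw [← cancel_epi (cUnit I M (n + 1)), ← Category.assoc, cUnit_natural, Category.assoc]
  refine (congrArg (f ≫ ·) (unit_cTn N n)).trans ?_
  refine ((cUnit_natural I f n).symm.trans ?_).trans (Category.assoc _ _ _)
  exact congrArg (· ≫ _) (unit_cTn M n).symm

/-- Every compatible family into the completion of `Q` comes from a morphism to `Q`. -/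
def Lifts (P Q : X.Modules) : Prop :=
  ∀ y : ∀ n, P ⟶ (Scheme.Modules.pushforward (FSch.completionToX X I n)).obj
      ((Scheme.Modules.pullback (FSch.completionToX X I n)).obj Q),
    (∀ n, y (n + 1) ≫ cTn Q n = y n) → ∃ φ : P ⟶ Q, ∀ n, φ ≫ cUnit I Q n = y n

theorem lifts_of_iso_left {P P' Q : X.Modules} (e : P ≅ P') (h : Lifts I P Q) : Lifts I P' Q := fun y hy => by
  obtain ⟨φ, hφ⟩ := h (fun n => e.hom ≫ y n) fun n => by rw [Category.assoc, hy n]
  exact ⟨e.inv ≫ φ, fun n => by rw [Category.assoc, hφ n, e.inv_hom_id_assoc]⟩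

theorem lifts_of_iso_right {P Q Q' : X.Modules} (e : Q ≅ Q') (h : Lifts I P Q) : Lifts I P Q' := fun y hy => by
  let F := fun n => Scheme.Modules.pullback (FSch.completionToX X I n) ⋙ Scheme.Modules.pushforward (FSch.completionToX X I n)
  obtain ⟨φ, hφ⟩ := h (fun n => y n ≫ (F n).map e.inv) fun n => by
    rw [Category.assoc]
    refine (congrArg (y (n + 1) ≫ ·) (cTn_natural I e.inv n)).trans ?_
    rw [← Category.assoc, hy n]
    rfl
  refine ⟨φ ≫ e.hom, fun n => ?_⟩
  rw [Category.assoc, ← cUnit_natural, ← Category.assoc, hφ n, Category.assoc]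
  exact (congrArg (y n ≫ ·) (((F n).mapIso e).inv_hom_id)).trans (Category.comp_id _)

theorem lifts_sigma {ι : Type} [HasCoproductsOfShape ι X.Modules] (P : ι → X.Modules) {Q : X.Modules}
    (h : ∀ i, Lifts I (P i) Q) : Lifts I (∐ P) Q := fun y hy => by
  choose φ hφ using fun i => h i (fun n => Limits.Sigma.ι P i ≫ y n) fun n => by rw [Category.assoc, hy n]
  exact ⟨Limits.Sigma.desc φ, fun n => Limits.Sigma.hom_ext _ _ fun i => by rw [Limits.Sigma.ι_desc_assoc, hφ i n]⟩

theorem lifts_biproduct {P : X.Modules} {ι : Type} [Fintype ι] [HasBiproductsOfShape ι X.Modules] (Q : ι → X.Modules)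
    (h : ∀ i, Lifts I P (Q i)) : Lifts I P (⨁ Q) := fun y hy => by
  classical
  let F := fun n => Scheme.Modules.pullback (FSch.completionToX X I n) ⋙ Scheme.Modules.pushforward (FSch.completionToX X I n)
  haveI : ∀ n, (Scheme.Modules.pullback (FSch.completionToX X I n)).Additive :=
    fun n => (Scheme.Modules.pullback _).additive_of_preserves_binary_products
  choose φ hφ using fun i => h i (fun n => y n ≫ (F n).map (biproduct.π Q i)) fun n => by
    rw [Category.assoc]
    refine (congrArg (y (n + 1) ≫ ·) (cTn_natural I (biproduct.π Q i) n)).trans ?_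
    rw [← Category.assoc, hy n]
    rfl
  refine ⟨biproduct.lift φ, fun n => ?_⟩
  have hc : ∀ i, (biproduct.lift φ ≫ cUnit I (⨁ Q) n) ≫ (F n).map (biproduct.π Q i) = y n ≫ (F n).map (biproduct.π Q i) := fun i => by
    rw [Category.assoc]
    refine (congrArg (biproduct.lift φ ≫ ·) (cUnit_natural I (biproduct.π Q i) n)).trans ?_
    rw [biproduct.lift_π_assoc, hφ i n]
  have hid : (F n).map (𝟙 (⨁ Q)) = ∑ i, (F n).map (biproduct.π Q i) ≫ (F n).map (biproduct.ι Q i) := by
    rw [← biproduct.total, Functor.map_sum]
    exact Finset.sum_congr rfl fun i _ => (F n).map_comp _ _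
  have e : ∀ g : P ⟶ (F n).obj (⨁ Q), g = ∑ i, (g ≫ (F n).map (biproduct.π Q i)) ≫ (F n).map (biproduct.ι Q i) := fun g => by
    conv_lhs => rw [← Category.comp_id g, ← (F n).map_id, hid, Preadditive.comp_sum]
    simp only [Category.assoc]
  exact (e _).trans ((Finset.sum_congr rfl fun i _ => congrArg (· ≫ _) (hc i)).trans (e (y n)).symm)

variable {I}

/-- A cokernel of a lift of a presentation has the given system as completion. -/
theorem exists_iso_of_cokernel (𝔐 : FSch.ModSys (FSch.completionAlong X I)) {D D' : X.Modules} (d : D' ⟶ D)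
    (c : ∀ n, (Scheme.Modules.pullback (FSch.completionToX X I n)).obj D' ⟶ (Scheme.Modules.pullback (FSch.completionToX X I n)).obj D)
    (hd : ∀ n, (Scheme.Modules.pullback (FSch.completionToX X I n)).map d = c n)
    (ψ : ∀ n, (Scheme.Modules.pullback (FSch.completionToX X I n)).obj D ⟶ 𝔐.F n) [∀ n, Epi (ψ n)]
    (hψ : ∀ n, (Scheme.Modules.pullback ((FSch.completionAlong X I).ι n)).map (ψ (n + 1)) ≫ (𝔐.e n).hom =
      (FormAlg.pullPullIso n D).hom ≫ ψ n)
    (hex : ∀ n, ∃ w : c n ≫ ψ n = 0, (ShortComplex.mk (c n) (ψ n) w).Exact) :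
    Nonempty (FSch.completionMod I (cokernel d) ≅ 𝔐) := by
  have hθ : ∀ n, ∃ θ : (Scheme.Modules.pullback (FSch.completionToX X I n)).obj (cokernel d) ≅ 𝔐.F n,
      (Scheme.Modules.pullback (FSch.completionToX X I n)).map (cokernel.π d) ≫ θ.hom = ψ n := fun n => by
    haveI : PreservesColimitsOfSize.{0, 0} (Scheme.Modules.pullback (FSch.completionToX X I n)) :=
      (Scheme.Modules.pullbackPushforwardAdjunction _).leftAdjoint_preservesColimits
    haveI := (Scheme.Modules.pullback (FSch.completionToX X I n)).additive_of_preserves_binary_products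
    obtain ⟨w, hw⟩ := hex n
    haveI : Epi (ShortComplex.mk (c n) (ψ n) w).g := inferInstanceAs (Epi (ψ n))
    let t : IsColimit (CokernelCofork.ofπ (ψ n) w) := hw.gIsCokernel
    refine ⟨PreservesCokernel.iso _ d ≪≫ cokernelIsoOfEq (hd n) ≪≫
      IsColimit.coconePointUniqueUpToIso (cokernelIsCokernel (c n)) t, ?_⟩
    simp only [Iso.trans_hom, PreservesCokernel.π_iso_hom_assoc, π_comp_cokernelIsoOfEq_hom_assoc]
    exact IsColimit.comp_coconePointUniqueUpToIso_hom (cokernelIsCokernel (c n)) t WalkingParallelPair.one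
  choose θ hθ' using hθ
  refine ⟨FormAlg.completionModIso 𝔐 (cokernel d) θ fun n => ?_⟩
  haveI : ∀ {Z Y : Scheme.{u}} (f : Z ⟶ Y), PreservesColimitsOfSize.{0, 0} (Scheme.Modules.pullback f) := fun f =>
    (Scheme.Modules.pullbackPushforwardAdjunction f).leftAdjoint_preservesColimits
  haveI : Epi ((Scheme.Modules.pullback ((FSch.completionAlong X I).ι n)).map
      ((Scheme.Modules.pullback (FSch.completionToX X I (n + 1))).map (cokernel.π d))) :=
    Functor.map_epi _ _
  refine (cancel_epi ((Scheme.Modules.pullback ((FSch.completionAlong X I).ι n)).map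
    ((Scheme.Modules.pullback (FSch.completionToX X I (n + 1))).map (cokernel.π d)))).1 ?_
  rw [← Category.assoc, ← Functor.map_comp, hθ' (n + 1), hψ n, ← hθ' n]
  exact ((Category.assoc _ _ _).symm.trans ((congrArg (· ≫ (θ n).hom)
    (FormAlg.pullPullIso_natural (𝓘 := I) n (cokernel.π d))).trans (Category.assoc _ _ _))).symm

end

end Groth.Agent.LeffAmple
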