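import Groth.Agent.LeffAmple.Sections
import Groth.Agent.LeffAmple.Lift
import Groth.Agent.LeffAmple.Free
import Groth.Agent.ResDesc.ResProp
import Groth.Agent.QC.Coherent

/-!
Algebraization of levelwise locally free systems along an ample divisor.
-/

set_option autoImplicit false
set_option maxHeartbeats 1000000
set_option linter.style.haveILetI false
set_option linter.unusedSectionVars false
set_option backward.isDefEq.respectTransparency false
set_option backward.isDefEq.respectTransparency.types false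
universe u

namespace Groth.Agent.LeffAmple

open CategoryTheory CategoryTheory.Limits AlgebraicGeometry TopologicalSpace Opposite
open Groth.Agent.CohFinite (tmap)
open FormAlg (sysObj sysTn)

noncomputable section

variable {X : Scheme.{u}} {I : X.IdealSheafData}

/-- Composing a compatible family with the inclusion of a subsystem. -/
theorem comp_sys {C D : Type*} [Category C] [Category D] (F : C ⥤ D) {A₁ B₁ E₁ : C} {A B E : D} {f' : A₁ ⟶ B₁}
    {k' : B₁ ⟶ E₁} {pA : F.obj A₁ ⟶ A} {pB : F.obj B₁ ⟶ B} {pE : F.obj E₁ ⟶ E} {f : A ⟶ B} {k : B ⟶ E}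
    (hf : F.map f' ≫ pB = pA ≫ f) (hk : F.map k' ≫ pE = pB ≫ k) :
    F.map (f' ≫ k') ≫ pE = pA ≫ f ≫ k := by
  rw [F.map_comp, Category.assoc, hk, reassoc_of% hf]

/-- Precomposing with an epimorphism keeps exactness. -/
theorem exact_precomp {C : Type*} [Category C] [Abelian C] {A B E G : C} (p : A ⟶ B) [Epi p] (k : B ⟶ E) (g : E ⟶ G)
    (w : k ≫ g = 0) (h : (ShortComplex.mk k g w).Exact) :
    ∃ w' : (p ≫ k) ≫ g = 0, (ShortComplex.mk (p ≫ k) g w').Exact := by
  refine ⟨by rw [Category.assoc, w, comp_zero], ?_⟩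
  let φ : ShortComplex.mk (p ≫ k) g (by rw [Category.assoc, w, comp_zero]) ⟶ ShortComplex.mk k g w :=
    { τ₁ := p, τ₂ := 𝟙 _, τ₃ := 𝟙 _ }
  haveI : Epi φ.τ₁ := inferInstanceAs (Epi p)
  haveI : IsIso φ.τ₂ := inferInstanceAs (IsIso (𝟙 E))
  haveI : Mono φ.τ₃ := inferInstanceAs (Mono (𝟙 G))
  exact (ShortComplex.exact_iff_of_epi_of_isIso_of_mono φ).2 h

/-- A presentation whose relations lift algebraizes the system. -/
theorem exists_cokernel (𝔐 : FSch.ModSys (FSch.completionAlong X I)) (h𝔐 : ∀ n, FlatMod.IsFinLocFree (𝔐.F n))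
    {D : X.Modules} (hD : FlatMod.IsFinLocFree D) (φ : ∀ n, D ⟶ sysObj 𝔐 n)
    (hφ : ∀ n, φ (n + 1) ≫ sysTn 𝔐 n = φ n) (hepi : ∀ n, Epi (φ n))
    (hgen : ∀ 𝔎 : FSch.ModSys (FSch.completionAlong X I), (∀ n, FlatMod.IsFinLocFree (𝔎.F n)) →
      ∃ (D' : X.Modules) (φ' : ∀ n, D' ⟶ sysObj 𝔎 n), Coh.IsCoh D' ∧ Lifts I D' D ∧
        (∀ n, φ' (n + 1) ≫ sysTn 𝔎 n = φ' n) ∧ ∀ n, Epi (φ' n)) :
    ∃ (D' : X.Modules) (d : D' ⟶ D), Coh.IsCoh D' ∧ Nonempty (FSch.completionMod I (cokernel d) ≅ 𝔐) := by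
  haveI := hepi
  haveI : ∀ n, Epi (FormAlg.adjMap 𝔐 D n (φ n)) := fun n => epi_adjMap 𝔐 (φ n)
  obtain ⟨𝔎, κ, h𝔎, hκ, hex⟩ := exists_kernelSys 𝔐 (fun n => FormAlg.adjMap 𝔐 D n (φ n)) hD h𝔐
    (FormAlg.adjMap_comm 𝔐 D φ hφ)
  obtain ⟨D', φ', hD', hlift, hφ', hepi'⟩ := hgen 𝔎 h𝔎
  haveI := hepi'
  let c := fun n => FormAlg.adjMap 𝔎 D' n (φ' n) ≫ κ n
  have hc : ∀ n, (Scheme.Modules.pullback ((FSch.completionAlong X I).ι n)).map (c (n + 1)) ≫
      ((FSch.completionMod I D).e n).hom = (FormAlg.pullPullIso n D').hom ≫ c n := fun n =>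
    (congrArg (_ ≫ ·) (FormAlg.completionMod_e_hom D n)).trans
      (comp_sys _ (FormAlg.adjMap_comm 𝔎 D' φ' hφ' n) (hκ n))
  let y := fun n => (Scheme.Modules.pullbackPushforwardAdjunction (FSch.completionToX X I n)).homEquiv D'
    ((Scheme.Modules.pullback (FSch.completionToX X I n)).obj D) (c n)
  obtain ⟨d, hd⟩ := hlift y fun n => adjunct_comm (FSch.completionMod I D) D' c n (hc n)
  refine ⟨D', d, hD', exists_iso_of_cokernel 𝔐 d c (fun n => ?_) (fun n => FormAlg.adjMap 𝔐 D n (φ n))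
    (FormAlg.adjMap_comm 𝔐 D φ hφ) fun n => ?_⟩
  · refine ((Scheme.Modules.pullbackPushforwardAdjunction (FSch.completionToX X I n)).homEquiv D' _).injective ?_
    refine ((Adjunction.homEquiv_unit _ _ _ _).trans (cUnit_natural I d n)).trans (hd n)
  · obtain ⟨w, hw⟩ := hex n
    haveI := epi_adjMap 𝔎 (φ' n)
    exact exact_precomp _ _ _ w hw

theorem sq_inv {C D : Type*} [Category C] [Category D] (F : C ⥤ D) {A₁ B₁ : C} {A B : D} {f₁ : A₁ ⟶ B₁}
    {g₁ : B₁ ⟶ A₁} {pA : F.obj A₁ ⟶ A} {pB : F.obj B₁ ⟶ B} {f : A ⟶ B} {g : B ⟶ A}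
    (h : F.map f₁ ≫ pB = pA ≫ f) (h₁ : g₁ ≫ f₁ = 𝟙 B₁) (h₂ : f ≫ g = 𝟙 A) : F.map g₁ ≫ pA = pB ≫ g := by
  have e1 : (F.map g₁ ≫ pA) ≫ f = pB := by
    rw [Category.assoc, ← h, ← Category.assoc, ← F.map_comp, h₁, F.map_id, Category.id_comp]
  have e2 := congrArg (· ≫ g) e1
  simp only [Category.assoc, h₂, Category.comp_id] at e2
  exact e2

/-- A morphism inverted on all thickenings gives isomorphic completions. -/
theorem exists_completion_of_isIso {M N : X.Modules} (η : M ⟶ N)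
    (hη : ∀ n, IsIso ((Scheme.Modules.pullback (FSch.completionToX X I n)).map η)) :
    Nonempty (FSch.completionMod I N ≅ FSch.completionMod I M) := by
  haveI := hη
  let ψ : ∀ n, (Scheme.Modules.pullback (FSch.completionToX X I n)).obj N ≅ (FSch.completionMod I M).F n :=
    fun n => (asIso ((Scheme.Modules.pullback (FSch.completionToX X I n)).map η)).symm
  refine ⟨FormAlg.completionModIso (FSch.completionMod I M) N ψ fun n => ?_⟩
  refine (congrArg (_ ≫ ·) (FormAlg.completionMod_e_hom M n)).trans ?_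
  exact sq_inv _ (g₁ := (ψ (n + 1)).hom) (g := (ψ n).hom) (FormAlg.pullPullIso_natural (𝓘 := I) n η)
    (IsIso.inv_hom_id _) (IsIso.hom_inv_id _)

/-- Completion of the extension of a restriction. -/
theorem exists_completion_restrict (U : X.Opens) (hU : (I.support : Set X) ⊆ (U : Set X)) (E : X.Modules) :
    Nonempty (FSch.completionMod I ((Scheme.Modules.pushforward U.ι).obj (E.restrict U.ι)) ≅ FSch.completionMod I E) := by
  let adj := Scheme.Modules.restrictAdjunction U.ι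
  let η := adj.unit.app E
  have hη : IsIso ((Scheme.Modules.pullback U.ι).map η) := by
    haveI : IsIso ((Scheme.Modules.restrictFunctor U.ι).map η) :=
      IsIso.of_isIso_fac_right (adj.left_triangle_components E)
    exact (NatIso.isIso_map_iff (Scheme.Modules.restrictFunctorIsoPullback U.ι) η).1 inferInstance
  have hj : ∀ n, IsIso ((Scheme.Modules.pullback (FSch.completionToX X I n)).map η) := fun n => by
    let k : (FSch.completionAlong X I).X n ⟶ (U : Scheme.{u}) :=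
      IsOpenImmersion.lift U.ι (FSch.completionToX X I n) (by
        rw [Scheme.Opens.range_ι]
        show Set.range (I ^ (n + 1)).subschemeι ⊆ _
        rw [Scheme.IdealSheafData.range_subschemeι, Scheme.IdealSheafData.support_pow _ _ (Nat.succ_ne_zero _)]
        exact hU)
    have hk : k ≫ U.ι = FSch.completionToX X I n := IsOpenImmersion.lift_fac _ _ _
    haveI := hη
    refine (NatIso.isIso_map_iff (Scheme.Modules.pullbackComp k U.ι ≪≫ Scheme.Modules.pullbackCongr hk) η).1 ?_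
    exact inferInstanceAs (IsIso ((Scheme.Modules.pullback k).map ((Scheme.Modules.pullback U.ι).map η)))
  exact exists_completion_of_isIso η hj

/-- A coherent algebraization restricts to a locally free one near the divisor. -/
theorem exists_nhd_of_coh [IsLocallyNoetherian X] (hI : BlowUp.IsEffCartierIdeal I)
    (𝔐 : FSch.ModSys (FSch.completionAlong X I)) (h𝔐 : ∀ n, FlatMod.IsFinLocFree (𝔐.F n)) {E : X.Modules}
    (hE : Coh.IsCoh E) (e : FSch.completionMod I E ≅ 𝔐) :
    ∃ (U : X.Opens) (E' : (U : Scheme.{u}).Modules), (I.support : Set X) ⊆ (U : Set X) ∧ FlatMod.IsFinLocFree E' ∧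
      Nonempty (FSch.completionMod I ((Scheme.Modules.pushforward U.ι).obj E') ≅ 𝔐) := by
  obtain ⟨U, hU, hfree⟩ := exists_free_nhd hI hE fun n => DQCoh.isFinLocFree_of_iso'
    (⟨e.inv.app n, e.hom.app n, congrArg (fun φ => φ.app n) e.inv_hom_id,
      congrArg (fun φ => φ.app n) e.hom_inv_id⟩ : 𝔐.F n ≅ _) (h𝔐 n)
  obtain ⟨e'⟩ := exists_completion_restrict U hU E
  exact ⟨U, E.restrict U.ι, hU, hfree, ⟨e' ≪≫ e⟩⟩

/-- Twisted free modules as sums. -/
theorem exists_twistFree {P Q : X.Modules} (θ : CohB1.tensorMod P Q ≅ Coh.structureModule X) (l : ℕ) :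
    Nonempty (CohB1.tensorMod (FlatMod.freeMod X l) P ≅ ∐ fun _ : Fin l => P) := by
  haveI : (SerrePn.tens P).IsEquivalence :=
    (SerrePn.tensEquiv θ (TMul.commIso _ _ ≪≫ θ)).isEquivalence_functor
  haveI : PreservesColimitsOfShape (Discrete (Fin l)) (SerrePn.tens P) := inferInstance
  exact ⟨PreservesCoproduct.iso (SerrePn.tens P) (fun _ : Fin l => Coh.structureModule X) ≪≫
    Limits.Sigma.mapIso fun _ => TMul.leftUnitIso P⟩

variable (A : Type u) [CommRing A] [IsNoetherianRing A] [X.Over (Spec (CommRingCat.of A))]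
  [IsProper (X ↘ Spec (CommRingCat.of A))] {L : X.Modules}

include A in
/-- Levelwise locally free systems along an ample divisor algebraize. -/
theorem exists_algebraization (hL : ClSub.IsInverseOf L (ClSub.idealMod I)) (hamp : CohB1.IsAmple L)
    (hLef : ∀ P : X.Modules, PicF.IsInvertible P → Lef.HomToFormalBijective I P)
    (hvan : ∀ G : ((FSch.completionAlong X I).X 0).Modules, FlatMod.IsFinLocFree G → ∃ m₀, ∀ m, m₀ ≤ m →
      Subsingleton (Coh.HH X (CohB1.tensorMod ((Scheme.Modules.pushforward (FSch.completionToX X I 0)).obj G)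
        (CohB1.tensorPow (ClSub.idealMod I) m)) 1))
    (𝔐 : FSch.ModSys (FSch.completionAlong X I)) (h𝔐 : LefX.LevelwiseFinLocFree 𝔐) :
    ∃ (U : X.Opens) (E : (U : Scheme.{u}).Modules), (I.support : Set X) ⊆ (U : Set X) ∧ FlatMod.IsFinLocFree E ∧
      Nonempty (FSch.completionMod I ((Scheme.Modules.pushforward U.ι).obj E) ≅ 𝔐) := by
  haveI : IsLocallyNoetherian X := LocallyOfFiniteType.isLocallyNoetherian (X ↘ Spec (CommRingCat.of A))
  have hI := isEffCartier_of_inverse hL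
  have hi := (Groth.Agent.S8914.result I).2 hI
  have hfree : ∀ r l, FlatMod.IsFinLocFree (CohB1.tensorMod (FlatMod.freeMod X l) (CohB1.tensorPow (ClSub.idealMod I) r)) :=
    fun r l => ResDesc.isFinLocFree_tensorMod (DCohLocus.isFinLocFree_free X l)
      (ResDesc.isFinLocFree_of_isInvertible (TMul.isInvertible_tensorPow hi r))
  obtain ⟨r, l, φ, hφ, hepi⟩ := exists_generators A 𝔐 hL hamp h𝔐 (hvan _ (h𝔐 0))
  obtain ⟨D', d, hD', ⟨e⟩⟩ := exists_cokernel 𝔐 h𝔐 (hfree r l) φ hφ hepi fun 𝔎 h𝔎 => by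
    obtain ⟨r', l', φ', hφ', hepi'⟩ := exists_generators A 𝔎 hL hamp h𝔎 (hvan _ (h𝔎 0))
    refine ⟨_, φ', ⟨LocFree.isQCoh_of_isFinLocFree (hfree r' l'), LocFree.isFT_of_isFinLocFree (hfree r' l')⟩, ?_,
      hφ', hepi'⟩
    obtain ⟨θ'⟩ := exists_inverse_pow hL r'
    obtain ⟨θ₀⟩ := exists_inverse_pow hL r
    obtain ⟨e₁⟩ := exists_twistFree (TMul.commIso _ _ ≪≫ θ') l'
    obtain ⟨e₂⟩ := exists_twistFree (TMul.commIso _ _ ≪≫ θ₀) l
    refine lifts_of_iso_left I e₁.symm (lifts_sigma I _ fun _ => lifts_of_iso_right I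
      (biproduct.isoCoproduct _ ≪≫ e₂.symm) (lifts_biproduct I _ fun _ => ?_))
    obtain ⟨θ⟩ := exists_inverse_pow hL r
    exact fun y hy => exists_lift_completion (TMul.isInvertible_tensorPow hamp.1 r) (TMul.commIso _ _ ≪≫ θ)
      (hLef _ (TMul.isInvertible_tensorMod (TMul.isInvertible_tensorPow hi r') (TMul.isInvertible_tensorPow hamp.1 r))) y hy
  exact exists_nhd_of_coh hI 𝔐 h𝔐 (Groth.Agent.QC.isCoh_cokernel hD'.1
    ⟨LocFree.isQCoh_of_isFinLocFree (hfree r l), LocFree.isFT_of_isFinLocFree (hfree r l)⟩ d) e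

end

end Groth.Agent.LeffAmple
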