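import Groth.Agent.LeffAmple.Sections
import Groth.Agent.ExtShX.TwistCover
import Groth.Agent.ExtShX.RelTensor
import Groth.Agent.RegDual.Scheme
import Groth.Agent.CohFinite.Linear
import Groth.Agent.CohQC.Push
import Groth.Agent.SerrePn.HomTwist

/-!
Vanishing of first cohomology of negative twists of finite locally free modules, from that of the structure sheaf.
-/

set_option autoImplicit false
set_option maxHeartbeats 1000000
set_option linter.style.haveILetI false
set_option linter.unusedSectionVars false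
set_option backward.isDefEq.respectTransparency false
set_option backward.isDefEq.respectTransparency.types false
universe u

open CategoryTheory CategoryTheory.Limits AlgebraicGeometry TopologicalSpace Opposite
open Groth.Agent.Nakai (cl_tensor cl_pow cl_one iso_of_cl)
open Groth.Agent.K0Dev (St)
open Groth.Agent.CohFinite (tmap)

noncomputable section

namespace Groth.Agent.LeffAmple

attribute [local instance] Groth.Agent.Nakai.clMonoid
attribute [local instance] Abelian.hasFiniteBiproducts

variable {X : Scheme.{u}}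

theorem evalStalk_dualMap {F F' : X.Modules} (ψ : F' ⟶ F) (x : X) (θ : (RefHull.dual F).presheaf.stalk x) :
    RefHull.evalStalk F' (Coh.structureModule X) x (((St x).map (RefFun.dualMap ψ)).hom θ) =
      (RefHull.evalStalk F (Coh.structureModule X) x θ).comp (RefHull.stalkMapₗ ψ x) := by
  obtain ⟨V, hx, g, rfl⟩ := TopCat.Presheaf.exists_germ_eq (RefHull.dual F).presheaf θ
  change RefHull.evalStalk F' (Coh.structureModule X) x
    (RefHull.stalkMapₗ (RefFun.dualMap ψ) x ((RefHull.dual F).presheaf.germ V x hx g)) = _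
  rw [RefHull.stalkMapₗ_germ, RefHull.evalStalk_germ, RefHull.evalStalk_germ, RefFun.homComap_app_apply]

/-- The transpose of an epimorphism of finite locally free modules splits on stalks. -/
theorem exists_retraction_dualMap {E G : X.Modules} (hE : FlatMod.IsFinLocFree E) (hG : FlatMod.IsFinLocFree G)
    (p : E ⟶ G) [Epi p] (x : X) :
    ∃ r : (RefHull.dual E).presheaf.stalk x →ₗ[X.presheaf.stalk x] (RefHull.dual G).presheaf.stalk x,
      ∀ θ, r (((St x).map (RefFun.dualMap p)).hom θ) = θ := by
  haveI := LocFree.free_stalk_of_isFinLocFree hG x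
  have hp : Function.Surjective (RefHull.stalkMapₗ p x) :=
    (ModuleCat.epi_iff_surjective ((St x).map p)).1 inferInstance
  obtain ⟨s, hs⟩ := Module.projective_lifting_property (RefHull.stalkMapₗ p x) LinearMap.id hp
  let eG := LinearEquiv.ofBijective (RefHull.evalStalk G (Coh.structureModule X) x)
    (RefStalk.evalStalk_bijective (LocFree.isFP_of_isFinLocFree hG) x)
  refine ⟨eG.symm.toLinearMap.comp
    (((LinearMap.lcomp (X.presheaf.stalk x) ((Coh.structureModule X).presheaf.stalk x)) s).comp
      (RefHull.evalStalk E (Coh.structureModule X) x)), fun θ => ?_⟩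
  refine eG.symm_apply_eq.2 ?_
  show (RefHull.evalStalk E (Coh.structureModule X) x (((St x).map (RefFun.dualMap p)).hom θ)).comp s = _
  rw [evalStalk_dualMap]
  exact (LinearMap.comp_assoc _ _ _).trans ((congrArg _ hs).trans (LinearMap.comp_id _))

theorem dualMap_add {F G : X.Modules} (a b : F ⟶ G) :
    RefFun.dualMap (a + b) = RefFun.dualMap a + RefFun.dualMap b := by
  refine Scheme.Modules.hom_ext _ _ fun U => ?_
  ext g
  refine Subtype.ext (funext fun x => ?_)
  change (g.1 x).comp (RefHull.stalkMapₗ (a + b) x.1) =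
    (g.1 x).comp (RefHull.stalkMapₗ a x.1) + (g.1 x).comp (RefHull.stalkMapₗ b x.1)
  rw [← LinearMap.comp_add]
  refine congrArg ((g.1 x).comp ·) (LinearMap.ext fun v => ?_)
  show ((St x.1).map (a + b)).hom v = ((St x.1).map a).hom v + ((St x.1).map b).hom v
  rw [Functor.map_add]
  rfl

theorem dualMap_sum {F G : X.Modules} {ι : Type} (s : Finset ι) (f : ι → (F ⟶ G)) :
    RefFun.dualMap (∑ i ∈ s, f i) = ∑ i ∈ s, RefFun.dualMap (f i) :=
  map_sum (AddMonoidHom.mk' (fun a : F ⟶ G => RefFun.dualMap a) dualMap_add) f s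

/-- The dual of a finite sum embeds into the sum of the duals. -/
theorem exists_retraction_dual_sum {ι : Type} [Fintype ι] (Z : ι → X.Modules) :
    ∃ (f : RefHull.dual (⨁ Z) ⟶ ⨁ fun i => RefHull.dual (Z i))
      (g : (⨁ fun i => RefHull.dual (Z i)) ⟶ RefHull.dual (⨁ Z)), f ≫ g = 𝟙 _ := by
  classical
  refine ⟨biproduct.lift fun i => RefFun.dualMap (biproduct.ι Z i),
    biproduct.desc fun i => RefFun.dualMap (biproduct.π Z i), ?_⟩
  rw [biproduct.lift_desc, ← RefFun.dualMap_id, ← biproduct.total, dualMap_sum]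
  exact Finset.sum_congr rfl fun i _ => (RefFun.dualMap_comp _ _).symm

theorem free_of_retraction {R : Type u} [CommRing R] [IsLocalRing R] [IsNoetherianRing R] {M N C : Type u}
    [AddCommGroup M] [AddCommGroup N] [AddCommGroup C] [Module R M] [Module R N] [Module R C] [Module.Free R N]
    [Module.Finite R N] (f : M →ₗ[R] N) (π : N →ₗ[R] C) (hπ : Function.Surjective π)
    (hker : LinearMap.ker π = LinearMap.range f) (r : N →ₗ[R] M) (hr : ∀ m, r (f m) = m) : Module.Free R C := by
  let L : N →ₗ[R] N := LinearMap.id - f.comp r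
  have hle : LinearMap.ker π ≤ LinearMap.ker L := by
    rw [hker]
    rintro _ ⟨m, rfl⟩
    show f m - f (r (f m)) = 0
    rw [hr, sub_self]
  let s : C →ₗ[R] N := ((LinearMap.ker π).liftQ L hle).comp (π.quotKerEquivOfSurjective hπ).symm.toLinearMap
  have hs : ∀ c, π (s c) = c := fun c => by
    obtain ⟨n, rfl⟩ := hπ c
    show π ((LinearMap.ker π).liftQ L hle ((π.quotKerEquivOfSurjective hπ).symm (π n))) = π n
    rw [show (π.quotKerEquivOfSurjective hπ).symm (π n) = Submodule.Quotient.mk n from
      (π.quotKerEquivOfSurjective hπ).symm_apply_eq.2 rfl, Submodule.liftQ_apply]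
    show π (n - f (r n)) = π n
    rw [map_sub, show π (f (r n)) = 0 from LinearMap.mem_ker.1 (hker.ge ⟨r n, rfl⟩), sub_zero]
  haveI : Module.Finite R C := Module.Finite.of_surjective π hπ
  haveI : Module.Projective R C := Module.Projective.of_split s π (LinearMap.ext hs)
  exact Module.free_of_flat_of_isLocalRing

variable [IsLocallyNoetherian X]

/-- A finite locally free module is a locally split submodule of a sum of ample twists. -/
theorem exists_embed {L : X.Modules} (hL : CohB1.IsAmple L) {G : X.Modules} (hG : FlatMod.IsFinLocFree G) :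
    ∃ (a c : ℕ) (f : G ⟶ ⨁ fun _ : Fin c => CohB1.tensorPow L a), Mono f ∧ FlatMod.IsFinLocFree (cokernel f) := by
  have hG' : FlatMod.IsFinLocFree (RefHull.dual G) := ResDesc.isFinLocFree_dual hG
  obtain ⟨n₀, hn₀⟩ := ExtShX.exists_cover_twists hL _ (LocFree.isQCoh_of_isFinLocFree hG')
    (LocFree.isFT_of_isFinLocFree hG')
  obtain ⟨c, p, hp⟩ := hn₀ n₀ le_rfl
  haveI := hp
  let T := CohB1.tensorPow L n₀
  have hT : FlatMod.IsFinLocFree T := ResDesc.isFinLocFree_of_isInvertible (TMul.isInvertible_tensorPow hL.1 n₀)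
  let p' := (biproduct.isoCoproduct fun _ : Fin c => RefHull.dual T).hom ≫ p
  haveI : Epi p' := epi_comp _ _
  have hP : FlatMod.IsFinLocFree (⨁ fun _ : Fin c => RefHull.dual T) :=
    DerPerf.isFinLocFree_of_isColimit Finset.univ (biproduct.isColimit _)
      (fun i h => absurd (Finset.mem_univ i) h) fun _ _ => ResDesc.isFinLocFree_dual hT
  obtain ⟨q, q', hq⟩ := exists_retraction_dual_sum (fun _ : Fin c => RefHull.dual T)
  haveI := ExtShX.isIso_bidualMap hG
  haveI := ExtShX.isIso_bidualMap hT
  let u : (⨁ fun _ : Fin c => RefHull.dual (RefHull.dual T)) ≅ ⨁ fun _ : Fin c => T :=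
    biproduct.mapIso fun _ => (asIso (RefHull.bidualMap T)).symm
  let f := RefHull.bidualMap G ≫ RefFun.dualMap p' ≫ q ≫ u.hom
  have hQ : FlatMod.IsFinLocFree (⨁ fun _ : Fin c => T) :=
    DerPerf.isFinLocFree_of_isColimit Finset.univ (biproduct.isColimit _)
      (fun i h => absurd (Finset.mem_univ i) h) fun _ _ => hT
  have hsplit : ∀ x : X, ∃ r : (⨁ fun _ : Fin c => T).presheaf.stalk x →ₗ[X.presheaf.stalk x] G.presheaf.stalk x,
      ∀ v, r (((St x).map f).hom v) = v := fun x => by
    obtain ⟨r₀, hr₀⟩ := exists_retraction_dualMap hP hG' p' x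
    refine ⟨((St x).map (inv (RefHull.bidualMap G))).hom.comp (r₀.comp ((St x).map (u.inv ≫ q')).hom), fun v => ?_⟩
    have e1 : ((St x).map (u.inv ≫ q')).hom (((St x).map f).hom v) =
        ((St x).map (RefFun.dualMap p')).hom (((St x).map (RefHull.bidualMap G)).hom v) := by
      have : f ≫ u.inv ≫ q' = RefHull.bidualMap G ≫ RefFun.dualMap p' := by
        simp only [f, Category.assoc, Iso.hom_inv_id_assoc, hq, Category.comp_id]
      have h := congrArg (fun φ => ((St x).map φ).hom v) this
      simp only [Functor.map_comp] at h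
      simp only [Functor.map_comp]
      exact h
    refine (congrArg (fun w => ((St x).map (inv (RefHull.bidualMap G))).hom (r₀ w)) e1).trans ?_
    refine (congrArg ((St x).map (inv (RefHull.bidualMap G))).hom (hr₀ _)).trans ?_
    exact ((St x).mapIso (asIso (RefHull.bidualMap G))).toLinearEquiv.symm_apply_apply v
  haveI hmono : Mono f := Preadditive.mono_of_isZero_kernel _ (KFlat.isZero_of_stalks _ fun x => by
    obtain ⟨r, hr⟩ := hsplit x
    haveI : Mono ((St x).map f) := (ModuleCat.mono_iff_injective _).2 fun a b h =>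
      (hr a).symm.trans ((congrArg r h).trans (hr b))
    exact IsZero.of_mono_eq_zero ((St x).map (kernel.ι f)) ((cancel_mono ((St x).map f)).1
      (by rw [← Functor.map_comp, kernel.condition, Functor.map_zero, zero_comp])))
  refine ⟨n₀, c, f, hmono, RegDual.isFinLocFree_of_free_stalk (Groth.Agent.QC.isCoh_cokernel
    (LocFree.isQCoh_of_isFinLocFree hG) ⟨LocFree.isQCoh_of_isFinLocFree hQ, LocFree.isFT_of_isFinLocFree hQ⟩ f)
    fun x => ?_⟩
  obtain ⟨r, hr⟩ := hsplit x
  haveI := LocFree.free_stalk_of_isFinLocFree hQ x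
  haveI := RegDual.finite_stalk (F := ⨁ fun _ : Fin c => T)
    ⟨LocFree.isQCoh_of_isFinLocFree hQ, LocFree.isFT_of_isFinLocFree hQ⟩ x
  have hS : (ShortComplex.mk f (cokernel.π f) (cokernel.condition f)).ShortExact :=
    { exact := ShortComplex.exact_of_g_is_cokernel _ (cokernelIsCokernel f) }
  have hSx := hS.map_of_exact (St x)
  exact free_of_retraction (N := (⨁ fun _ : Fin c => T).presheaf.stalk x) ((St x).map f).hom
    ((St x).map (cokernel.π f)).hom ((ModuleCat.epi_iff_surjective _).1 hSx.epi_g)
    (ShortComplex.Exact.moduleCat_range_eq_ker hSx.exact).symm r hr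

variable {A : Type u} [CommRing A] [X.Over (Spec (CommRingCat.of A))]

theorem subsingleton_hh_tensor_sum {P T : X.Modules} (hP : PicF.IsInvertible P) {c : ℕ} (i : ℕ)
    (h : Subsingleton (Coh.HH X (CohB1.tensorMod T P) i)) :
    Subsingleton (Coh.HH X (CohB1.tensorMod (⨁ fun _ : Fin c => T) P) i) := by
  haveI : (SerrePn.tens P).Additive := by
    obtain ⟨θ⟩ := ResDesc.nonempty_dual_tensor_iso hP
    haveI : (SerrePn.tens P).IsEquivalence :=
      (SerrePn.tensEquiv (TMul.commIso _ _ ≪≫ θ) θ).isEquivalence_functor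
    exact Functor.additive_of_preserves_binary_products _
  exact CohQC.hh_subsingleton_of_iso ((SerrePn.tens P).mapBiproduct fun _ : Fin c => T).symm i
    (CohQC.subsingleton_hh_biproduct _ i fun _ => h)

/-- Twisted down far enough, a locally free module has no first cohomology when the structure sheaf has none. -/
theorem exists_van_locFree {L L' : X.Modules} (hL : CohB1.IsAmple L) (hL' : PicF.IsInvertible L')
    (hinv : PicF.cl L' * PicF.cl L = 1)
    (h : ∃ m₁, ∀ m, m₁ ≤ m → ∀ i, i < 2 → Subsingleton (Coh.HH X (CohB1.tensorPow L' m) i))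
    {G : X.Modules} (hG : FlatMod.IsFinLocFree G) :
    ∃ m₀, ∀ m, m₀ ≤ m → Subsingleton (Coh.HH X (CohB1.tensorMod G (CohB1.tensorPow L' m)) 1) := by
  obtain ⟨m₁, hm₁⟩ := h
  have htw : ∀ a m i, m₁ + a ≤ m → i < 2 →
      Subsingleton (Coh.HH X (CohB1.tensorMod (CohB1.tensorPow L a) (CohB1.tensorPow L' m)) i) := fun a m i hm hi => by
    refine CohQC.hh_subsingleton_of_iso (iso_of_cl ?_).some i (hm₁ (m - a) (by omega) i hi)
    rw [cl_tensor, cl_pow, cl_pow, cl_pow]
    conv_rhs => rw [show m = a + (m - a) by omega, pow_add, ← mul_assoc, ← mul_pow, mul_comm (PicF.cl L), hinv,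
      one_pow, one_mul]
  obtain ⟨a, c, f, hf, hC⟩ := exists_embed hL hG
  obtain ⟨b, d, g, hg, -⟩ := exists_embed hL hC
  refine ⟨m₁ + a + b, fun m hm => ?_⟩
  have hP := TMul.isInvertible_tensorPow hL' m
  haveI := hg
  have hg' : (ShortComplex.mk g (cokernel.π g) (cokernel.condition g)).ShortExact :=
    { exact := ShortComplex.exact_of_g_is_cokernel _ (cokernelIsCokernel g) }
  haveI h0 : Subsingleton (Coh.HH X (CohB1.tensorMod (cokernel f) (CohB1.tensorPow L' m)) 0) := by
    haveI := subsingleton_hh_tensor_sum (c := d) hP 0 (htw b m 0 (by omega) (by omega))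
    exact ⟨fun x y => CohFinite.map_f_injective (CohFinite.shortExact_toAb (CohFinite.shortExact_tmap hP hg'))
      (Subsingleton.elim (α := Coh.HH X (CohB1.tensorMod (⨁ fun _ : Fin d => CohB1.tensorPow L b) (CohB1.tensorPow L' m)) 0) _ _)⟩
  haveI := hf
  have hf' : (ShortComplex.mk f (cokernel.π f) (cokernel.condition f)).ShortExact :=
    { exact := ShortComplex.exact_of_g_is_cokernel _ (cokernelIsCokernel f) }
  haveI := subsingleton_hh_tensor_sum (c := c) hP 1 (htw a m 1 (by omega) (by omega))
  have hE := CohFinite.shortExact_toAb (CohFinite.shortExact_tmap hP hf')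
  refine ⟨fun x y => sub_eq_zero.1 ?_⟩
  obtain ⟨z, hz⟩ := (CohFinite.map_f_eq_zero_iff hE 0 (x - y)).1
    (Subsingleton.elim (α := Coh.HH X (CohB1.tensorMod (⨁ fun _ : Fin c => CohB1.tensorPow L a) (CohB1.tensorPow L' m)) 1) _ _)
  rw [← hz, Subsingleton.elim (α := Coh.HH X (CohB1.tensorMod (cokernel f) (CohB1.tensorPow L' m)) 0) z 0, map_zero]

end Groth.Agent.LeffAmple
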