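import Groth.Agent.LeffAmple.Algebraize
import Groth.Agent.LeffAmple.LocVan
import Groth.Agent.SerrePn.ClosedTwist
import Groth.Agent.TMul.RelAmple

/-!
Hypotheses of algebraization and of the Picard comparison from vanishing of twists of the structure sheaf of the divisor.
-/

set_option autoImplicit false
set_option maxHeartbeats 1000000
set_option linter.style.haveILetI false
set_option linter.unusedSectionVars false
set_option backward.isDefEq.respectTransparency false
set_option backward.isDefEq.respectTransparency.types false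
universe u

open CategoryTheory CategoryTheory.Limits AlgebraicGeometry TopologicalSpace Opposite
open Groth.Agent.Nakai (cl_tensor cl_pow cl_one iso_of_cl)
open Groth.Agent.CohFinite (tmap)
open Groth.Agent.FormAlg (sysObj sysTn)

noncomputable section

namespace Groth.Agent.LeffAmple

attribute [local instance] Groth.Agent.Nakai.clMonoid

variable {X : Scheme.{u}} {I : X.IdealSheafData}

theorem kernel_iso_of_sq {S : ShortComplex X.Modules} (hS : S.ShortExact) {B C : X.Modules} (q : B ⟶ C)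
    (eB : S.X₂ ≅ B) (eC : S.X₃ ≅ C) (w : S.g ≫ eC.hom = eB.hom ≫ q) : Nonempty (kernel q ≅ S.X₁) :=
  ⟨(IsLimit.conePointUniqueUpToIso hS.fIsKernel (kernelIsKernel S.g) ≪≫ kernel.mapIso S.g q eB eC w).symm⟩

theorem cl_level_zero (hI : BlowUp.IsEffCartierIdeal I) (k : ℕ) (Q : X.Modules)
    (e : Q ≅ ClSub.quotMod (I ^ (0 + 1))) :
    Nonempty (CohB1.tensorMod Q (ClSub.idealMod (I ^ (k + 1))) ≅
      CohB1.tensorMod (CohB1.tensorPow (ClSub.idealMod I) (k + 1)) (ClSub.quotMod I)) := by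
  refine iso_of_cl ?_
  rw [cl_tensor, cl_tensor, cl_pow, (LefDiv.idealMod_pow hI k).2, (PicGrp.cl_eq_cl_iff _ _).2 ⟨e⟩, zero_add, pow_one,
    mul_comm]

/-- The levels of the completion of the structure module. -/
def quotIso (n : ℕ) : (Scheme.Modules.pushforward (FSch.completionToX X I n)).obj
    ((Scheme.Modules.pullback (FSch.completionToX X I n)).obj (Coh.structureModule X)) ≅ ClSub.quotMod (I ^ (n + 1)) :=
  (Scheme.Modules.pushforward (FSch.completionToX X I n)).mapIso
    (PicLoc.pullbackStructureIso (FSch.completionToX X I n))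

theorem cUnit_quotIso (n : ℕ) :
    cUnit I (Coh.structureModule X) n ≫ (quotIso n).hom = ClSub.toSubscheme (I ^ (n + 1)) :=
  unit_structureModule (FSch.completionToX X I n)

theorem cTn_quotIso (k : ℕ) :
    cTn (I := I) (Coh.structureModule X) k ≫ (quotIso k).hom =
      (quotIso (k + 1)).hom ≫ Lef.quotMap (Lef.pow_succ_le I k) := by
  refine (cancel_epi (cUnit I (Coh.structureModule X) (k + 1))).1 ?_
  refine ((Category.assoc _ _ _).symm.trans (congrArg (· ≫ (quotIso k).hom) (unit_cTn _ k))).trans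
    ((cUnit_quotIso k).trans ?_)
  refine Eq.trans ?_ ((congrArg (· ≫ _) (cUnit_quotIso (k + 1))).symm.trans (Category.assoc _ _ _))
  exact (LefDiv.toSubscheme_quotMap (Lef.pow_succ_le I k)).symm

theorem sysTn_completion (M : X.Modules) (k : ℕ) :
    tr (FSch.completionMod I M) (Nat.le_succ k) = cTn M k := tr_succ _ k

theorem isFinLocFree_completion_structure (n : ℕ) :
    FlatMod.IsFinLocFree ((FSch.completionMod I (Coh.structureModule X)).F n) :=
  DerPerf.isFinLocFree_pullback _ (ResDesc.isFinLocFree_of_isInvertible TMul.isInvertible_structureModule)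

theorem exists_seq_completion (hI : BlowUp.IsEffCartierIdeal I) (k : ℕ) :
    ∃ S : ShortComplex X.Modules, S.ShortExact ∧
      Nonempty (S.X₁ ≅ CohB1.tensorMod (CohB1.tensorPow (ClSub.idealMod I) (k + 1)) (ClSub.quotMod I)) ∧
      ∃ (eB : S.X₂ ≅ ClSub.quotMod (I ^ (k + 1 + 1))) (eC : S.X₃ ≅ ClSub.quotMod (I ^ (k + 1))),
        S.g ≫ eC.hom = eB.hom ≫ Lef.quotMap (Lef.pow_succ_le I k) := by
  obtain ⟨φ, w, hφ⟩ := exists_seq' (FSch.completionMod I (Coh.structureModule X)) hI isFinLocFree_completion_structure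
    k 0 (k + 1) rfl
  refine ⟨_, hφ, cl_level_zero hI k _ (quotIso 0), quotIso (k + 1), quotIso k, ?_⟩
  exact (congrArg (· ≫ (quotIso k).hom) (sysTn_completion (Coh.structureModule X) k)).trans (cTn_quotIso k)

/-- The kernels of the transition maps between the quotients. -/
theorem kernel_quotMap (hI : BlowUp.IsEffCartierIdeal I) (k : ℕ) :
    Nonempty (kernel (Lef.quotMap (Lef.pow_succ_le I k)) ≅
      CohB1.tensorMod (CohB1.tensorPow (ClSub.idealMod I) (k + 1)) (ClSub.quotMod I)) := by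
  obtain ⟨S, hS, ⟨τ⟩, eB, eC, w⟩ := exists_seq_completion hI k
  obtain ⟨κ⟩ := kernel_iso_of_sq hS (Lef.quotMap (Lef.pow_succ_le I k)) eB eC w
  exact ⟨κ ≪≫ τ⟩

variable (A : Type u) [CommRing A] [IsNoetherianRing A] [X.Over (Spec (CommRingCat.of A))]
  [IsProper (X ↘ Spec (CommRingCat.of A))] {L : X.Modules}

include A in
/-- Vanishing for the structure sheaf of the divisor. -/
theorem subsingleton_quot_zero (hI : PicF.IsInvertible (ClSub.idealMod I)) (m : ℕ)
    (h0 : Subsingleton (Coh.HH X (CohB1.tensorPow (ClSub.idealMod I) m) 0))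
    (h1 : Subsingleton (Coh.HH X (CohB1.tensorPow (ClSub.idealMod I) (m + 1)) 1)) :
    Subsingleton (Coh.HH X (CohB1.tensorMod (ClSub.quotMod I) (CohB1.tensorPow (ClSub.idealMod I) m)) 0) := by
  have hS := CohFinite.shortExact_toAb
    (CohFinite.shortExact_tmap (TMul.isInvertible_tensorPow hI m) (CurveRR.ideal_shortExact I))
  haveI h0' : Subsingleton (Coh.HH X (CohB1.tensorMod (Coh.structureModule X) (CohB1.tensorPow (ClSub.idealMod I) m)) 0) :=
    CohQC.hh_subsingleton_of_iso (TMul.leftUnitIso _).symm 0 h0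
  obtain ⟨ψ⟩ : Nonempty (CohB1.tensorPow (ClSub.idealMod I) (m + 1) ≅
      CohB1.tensorMod (ClSub.idealMod I) (CohB1.tensorPow (ClSub.idealMod I) m)) :=
    iso_of_cl (by rw [cl_tensor, cl_pow, cl_pow, pow_succ'])
  haveI h1' : Subsingleton (Coh.HH X (CohB1.tensorMod (ClSub.idealMod I) (CohB1.tensorPow (ClSub.idealMod I) m)) 1) :=
    CohQC.hh_subsingleton_of_iso ψ 1 h1
  refine ⟨fun x y => sub_eq_zero.1 ?_⟩
  obtain ⟨z, hz⟩ := (CohFinite.δH_eq_zero_iff hS 0 (x - y)).1
    (Subsingleton.elim (α := Coh.HH X (CohB1.tensorMod (ClSub.idealMod I) (CohB1.tensorPow (ClSub.idealMod I) m)) 1) _ _)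
  rw [← hz, Subsingleton.elim (α := Coh.HH X (CohB1.tensorMod (Coh.structureModule X) (CohB1.tensorPow (ClSub.idealMod I) m)) 0) z 0,
    map_zero]

include A in
/-- Twists of a module on a closed subscheme. -/
theorem hh_push_iff {Y : Scheme.{u}} (i : Y ⟶ X) [IsClosedImmersion i] (G : Y.Modules) (hG : Coh.IsQCoh G)
    {M : X.Modules} (hM : PicF.IsInvertible M) (m j : ℕ) :
    Subsingleton (Coh.HH X (CohB1.tensorMod ((Scheme.Modules.pushforward i).obj G) (CohB1.tensorPow M m)) j) ↔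
      Subsingleton (Coh.HH Y (CohB1.tensorMod G (CohB1.tensorPow ((Scheme.Modules.pullback i).obj M) m)) j) := by
  letI : Y.Over (Spec (CommRingCat.of A)) := ⟨i ≫ (X ↘ Spec (CommRingCat.of A))⟩
  haveI : G.IsQuasicoherent := hG
  obtain ⟨ε⟩ := SerrePn.nonempty_hh_pushTwist A i rfl G (TMul.isInvertible_tensorPow hM m) j
  obtain ⟨τ⟩ := TMul.nonempty_pullPowIso i M m
  exact ε.toEquiv.subsingleton_congr.symm.trans
    ⟨fun h => CohQC.hh_subsingleton_of_iso ((DCoh.tensorBi.obj G).mapIso τ.symm) j h,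
      fun h => CohQC.hh_subsingleton_of_iso ((DCoh.tensorBi.obj G).mapIso τ) j h⟩

include A in
/-- Locally free modules on the divisor. -/
theorem exists_van_push (hamp : CohB1.IsAmple L) (hinv : PicF.cl (ClSub.idealMod I) * PicF.cl L = 1)
    (hi : PicF.IsInvertible (ClSub.idealMod I)) {Y : Scheme.{u}} (i : Y ⟶ X) [IsClosedImmersion i]
    [IsLocallyNoetherian Y]
    (h : ∃ m₁, ∀ m, m₁ ≤ m → ∀ j, j < 2 → Subsingleton (Coh.HH X (CohB1.tensorMod
      ((Scheme.Modules.pushforward i).obj (Coh.structureModule Y)) (CohB1.tensorPow (ClSub.idealMod I) m)) j))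
    (G : Y.Modules) (hG : FlatMod.IsFinLocFree G) :
    ∃ m₀, ∀ m, m₀ ≤ m → Subsingleton (Coh.HH X (CohB1.tensorMod ((Scheme.Modules.pushforward i).obj G)
      (CohB1.tensorPow (ClSub.idealMod I) m)) 1) := by
  letI : Y.Over (Spec (CommRingCat.of A)) := ⟨i ≫ (X ↘ Spec (CommRingCat.of A))⟩
  obtain ⟨m₁, hm₁⟩ := h
  have hinv' : PicF.cl ((Scheme.Modules.pullback i).obj (ClSub.idealMod I)) * PicF.cl ((Scheme.Modules.pullback i).obj L) = 1 := by
    obtain ⟨e⟩ := iso_of_cl (A := CohB1.tensorMod (ClSub.idealMod I) L) (B := Coh.structureModule X)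
      (by rw [cl_tensor, cl_one]; exact hinv)
    obtain ⟨t⟩ := TMul.nonempty_pullTensorIso i (ClSub.idealMod I) L
    rw [← cl_tensor, ← cl_one]
    exact (PicGrp.cl_eq_cl_iff _ _).2 ⟨t ≪≫ (Scheme.Modules.pullback i).mapIso e ≪≫ DerPerf.pullUnitIso i⟩
  obtain ⟨m₀, hm₀⟩ := exists_van_locFree (TMul.isAmple_pullback_of_isAffineHom i hamp)
    (PicLoc.isInvertible_pullback i hi) hinv'
    ⟨m₁, fun m hm j hj => CohQC.hh_subsingleton_of_iso (TMul.leftUnitIso _) j
      ((hh_push_iff A i _ RefStalk.isCoh_structureModule.1 hi m j).1 (hm₁ m hm j hj))⟩ hG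
  exact ⟨m₀, fun m hm => (hh_push_iff A i G (LocFree.isQCoh_of_isFinLocFree hG) hi m 1).2 (hm₀ m hm)⟩

include A in
/-- The vanishing hypothesis of algebraization from the structure sheaves. -/
theorem exists_van_of_structure (hL : ClSub.IsInverseOf L (ClSub.idealMod I)) (hamp : CohB1.IsAmple L)
    (h2 : ∃ m₀, ∀ m, m₀ ≤ m → ∀ j, j < 2 → Subsingleton (Coh.HH X (CohB1.tensorPow (ClSub.idealMod I) m) j))
    (h1 : ∃ m₁, ∀ m, m₁ ≤ m →
      Subsingleton (Coh.HH X (CohB1.tensorMod (CohB1.tensorPow (ClSub.idealMod I) m) (ClSub.quotMod I)) 1))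
    (G : ((FSch.completionAlong X I).X 0).Modules) (hG : FlatMod.IsFinLocFree G) :
    ∃ m₀, ∀ m, m₀ ≤ m → Subsingleton (Coh.HH X (CohB1.tensorMod ((Scheme.Modules.pushforward (FSch.completionToX X I 0)).obj G)
      (CohB1.tensorPow (ClSub.idealMod I) m)) 1) := by
  have hi := (Groth.Agent.S8914.result I).2 (isEffCartier_of_inverse hL)
  obtain ⟨m₀, hm₀⟩ := h2
  obtain ⟨m₁, hm₁⟩ := h1
  have key : ∀ J : X.IdealSheafData, J = I → ∀ G : (J.subscheme).Modules, FlatMod.IsFinLocFree G →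
      ∃ m₀, ∀ m, m₀ ≤ m → Subsingleton (Coh.HH X (CohB1.tensorMod ((Scheme.Modules.pushforward J.subschemeι).obj G)
        (CohB1.tensorPow (ClSub.idealMod I) m)) 1) := by
    intro J hJ G' hG'
    subst hJ
    haveI : IsLocallyNoetherian J.subscheme :=
      LocallyOfFiniteType.isLocallyNoetherian (J.subschemeι ≫ (X ↘ Spec (CommRingCat.of A)))
    refine exists_van_push A hamp (by rw [mul_comm]; exact Groth.Agent.Nakai.cl_inv hL) hi J.subschemeι
      ⟨max m₀ m₁, fun m hm j hj => ?_⟩ G' hG'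
    obtain rfl | rfl : j = 0 ∨ j = 1 := by omega
    · exact subsingleton_quot_zero A hi m (hm₀ m (by omega) 0 (by omega)) (hm₀ (m + 1) (by omega) 1 (by omega))
    · exact CohQC.hh_subsingleton_of_iso (TMul.commIso _ _) 1 (hm₁ m (by omega))
  exact key _ (pow_one I) G hG

end Groth.Agent.LeffAmple
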