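import Groth.Agent.LeffAmple.Hyp
import Groth.Agent.FormAlg.LeffPicX

/-!
Leff and the Picard comparison for an ample divisor.
-/

set_option autoImplicit false
set_option maxHeartbeats 1000000
set_option linter.style.haveILetI false
set_option linter.unusedSectionVars false
set_option backward.isDefEq.respectTransparency false
set_option backward.isDefEq.respectTransparency.types false
universe u

open CategoryTheory CategoryTheory.Limits AlgebraicGeometry TopologicalSpace Opposite
open Groth.Agent.Nakai (cl_tensor cl_pow cl_one iso_of_cl)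

noncomputable section

namespace Groth.Agent.LeffAmple

attribute [local instance] Groth.Agent.Nakai.clMonoid

variable {X : Scheme.{u}} {I : X.IdealSheafData}
  (A : Type u) [CommRing A] [IsNoetherianRing A] [X.Over (Spec (CommRingCat.of A))]
  [IsProper (X ↘ Spec (CommRingCat.of A))] {L : X.Modules}

include A in
/-- The effective Lefschetz condition from vanishing for the structure sheaves. -/
theorem leff_of_structure (hL : ClSub.IsInverseOf L (ClSub.idealMod I)) (hamp : CohB1.IsAmple L)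
    (hC : Lef.LefCond X I) (hLef : ∀ P : X.Modules, PicF.IsInvertible P → Lef.HomToFormalBijective I P)
    (h2 : ∃ m₀, ∀ m, m₀ ≤ m → ∀ j, j < 2 → Subsingleton (Coh.HH X (CohB1.tensorPow (ClSub.idealMod I) m) j))
    (h1 : ∃ m₁, ∀ m, m₁ ≤ m →
      Subsingleton (Coh.HH X (CohB1.tensorMod (CohB1.tensorPow (ClSub.idealMod I) m) (ClSub.quotMod I)) 1)) :
    LefX.LeffCond X I :=
  ⟨hC, fun 𝔐 h𝔐 => exists_algebraization A hL hamp hLef (exists_van_of_structure A hL hamp h2 h1) 𝔐 h𝔐⟩

include A in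
/-- Comparison of the Picard groups of `X` and the `p`-th thickening. -/
theorem pic_thickening (hL : ClSub.IsInverseOf L (ClSub.idealMod I)) (hLeff : LefX.LeffCond X I) (p : ℕ)
    (hH : ∀ m, p + 1 ≤ m → ∀ i : ℕ, (i = 1 ∨ i = 2) →
      Subsingleton (Coh.HH X (CohB1.tensorMod (CohB1.tensorPow (ClSub.idealMod I) m) (ClSub.quotMod I)) i))
    (h3 : ∀ U : X.Opens, (I.support : Set X) ⊆ (U : Set X) → ∀ x : X, x ∉ U →
      ParaF.IsParafactorialLocalRing (X.presheaf.stalk x)) :
    Formal2.PicPullbackInjective (I ^ (p + 1)).subschemeι ∧ Formal2.PicPullbackSurjective (I ^ (p + 1)).subschemeι := by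
  haveI : IsLocallyNoetherian X := LocallyOfFiniteType.isLocallyNoetherian (X ↘ Spec (CommRingCat.of A))
  have h2 : ∀ k, p ≤ k → ∀ i : ℕ, (i = 1 ∨ i = 2) →
      Subsingleton (Coh.HH X (kernel (Lef.quotMap (Lef.pow_succ_le I k))) i) := fun k hk i hi => by
    obtain ⟨e⟩ := kernel_quotMap (isEffCartier_of_inverse hL) k
    exact CohQC.hh_subsingleton_of_iso e.symm i (hH (k + 1) (by omega) i hi)
  exact ⟨FormAlg.LefPic.picPullbackInjective_thickening hLeff.1 (fun k hk => h2 k hk 1 (Or.inl rfl)) le_rfl,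
    FormAlg.LefPic.picPullbackSurjective_thickening hLeff (fun k hk => h2 k hk 2 (Or.inr rfl)) h3 le_rfl⟩

omit [IsNoetherianRing A] [IsProper (X ↘ Spec (CommRingCat.of A))] in
/-- Trivial kernel gives injectivity on isomorphism classes. -/
theorem nonempty_iso_of_injective {Y : Scheme.{u}} (f : Y ⟶ X) (h : Formal2.PicPullbackInjective f)
    {M M' : X.Modules} (hM : PicF.IsInvertible M) (hM' : PicF.IsInvertible M')
    (e : (Scheme.Modules.pullback f).obj M ≅ (Scheme.Modules.pullback f).obj M') : Nonempty (M ≅ M') := by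
  obtain ⟨δ⟩ := ResDesc.nonempty_dual_tensor_iso hM'
  have hd : PicF.IsInvertible (RefHull.dual M') := by
    have h1 := (PicGrp.cl_eq_cl_iff _ _).2 ⟨δ⟩
    rw [cl_tensor, cl_tensor, cl_one, mul_one] at h1
    exact Groth.Agent.S2122.result _ _ (iso_of_cl (A := CohB1.tensorMod (RefHull.dual M') M')
      (B := Coh.structureModule X) (by rw [cl_tensor, cl_one]; exact h1)).some
  have h1 : PicF.cl (RefHull.dual M') * PicF.cl M' = 1 := by
    have h1 := (PicGrp.cl_eq_cl_iff _ _).2 ⟨δ⟩
    rwa [cl_tensor, cl_tensor, cl_one, mul_one] at h1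
  obtain ⟨t⟩ := TMul.nonempty_pullTensorIso f (RefHull.dual M') M
  obtain ⟨t'⟩ := TMul.nonempty_pullTensorIso f (RefHull.dual M') M'
  obtain ⟨θ⟩ := iso_of_cl (A := CohB1.tensorMod (RefHull.dual M') M') (B := Coh.structureModule X)
    (by rw [cl_tensor, cl_one]; exact h1)
  obtain ⟨w⟩ := h _ (TMul.isInvertible_tensorMod hd hM) ⟨t.symm ≪≫ (DCoh.tensorBi.obj _).mapIso e ≪≫ t' ≪≫
    (Scheme.Modules.pullback f).mapIso θ ≪≫ DerPerf.pullUnitIso f⟩
  refine iso_of_cl ?_
  have h2 := (PicGrp.cl_eq_cl_iff _ _).2 ⟨w⟩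
  rw [cl_tensor, cl_one] at h2
  calc PicF.cl M = PicF.cl M * (PicF.cl (RefHull.dual M') * PicF.cl M') := by rw [h1, mul_one]
    _ = (PicF.cl (RefHull.dual M') * PicF.cl M) * PicF.cl M' := by ac_rfl
    _ = _ := by rw [h2, one_mul]

end Groth.Agent.LeffAmple
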