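import Groth.Agent.LeffAmple.Twist
import Groth.Agent.DCohLocus.FreeLocus
import Groth.Agent.CycPB.FiltPull

/-!
Presentations of a levelwise locally free system: the kernel system of a family of epimorphisms.
-/

set_option autoImplicit false
set_option maxHeartbeats 1000000
set_option linter.style.haveILetI false
set_option linter.unusedSectionVars false
set_option backward.isDefEq.respectTransparency false
set_option backward.isDefEq.respectTransparency.types false
universe u

namespace Groth.Agent.LeffAmple

open CategoryTheory CategoryTheory.Limits AlgebraicGeometry TopologicalSpace Opposite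
open Groth.Agent.K0Dev (St)

noncomputable section

/-- Inverse images preserve short exact sequences with finite locally free quotient. -/
theorem shortExact_pullback {X Y : Scheme.{u}} (f : Y ⟶ X) {S : ShortComplex X.Modules} (hS : S.ShortExact)
    (h : FlatMod.IsFinLocFree S.X₃) : (S.map (Scheme.Modules.pullback f)).ShortExact := by
  refine CycK0.shortExact_of_stalks _ fun y => ?_
  have hx : (S.map (St (f y))).ShortExact := hS.map_of_exact (St (f y))
  haveI := LocFree.free_stalk_of_isFinLocFree h (f y)
  haveI : Projective (S.map (St (f y))).X₃ :=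
    (IsProjective.iff_projective (R := X.presheaf.stalk (f y)) (S.X₃.presheaf.stalk (f y))).1 inferInstance
  haveI := hx.mono_f
  haveI := hx.epi_g
  let s : (S.map (St (f y))).Splitting :=
    ShortComplex.Splitting.ofExactOfSection _ hx.exact (Projective.factorThru (𝟙 _) (S.map (St (f y))).g)
      (Projective.factorThru_comp _ _) inferInstance
  let G := ModuleCat.extendScalars.{u, u, u} (f.stalkMap y).hom
  haveI : G.Additive := Functor.additive_of_preserves_binary_products G
  exact ShortComplex.shortExact_of_iso (S.mapNatIso (KFlat.pullStalkIso f y)).symm (s.map G).shortExact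

/-- The image of a kernel under a functor preserving a short exact sequence. -/
theorem exists_kernel_iso {C D : Type*} [Category C] [Category D] [Abelian C] [Abelian D] (F : C ⥤ D)
    [F.PreservesZeroMorphisms] {M N : C} (g : M ⟶ N) [Epi g] {M' N' : D} (g' : M' ⟶ N') (p : F.obj M ≅ M')
    (q : F.obj N ≅ N') (w : F.map g ≫ q.hom = p.hom ≫ g')
    (h : ((ShortComplex.mk (kernel.ι g) g (kernel.condition g)).map F).ShortExact) :
    ∃ e : F.obj (kernel g) ≅ kernel g', e.hom ≫ kernel.ι g' = F.map (kernel.ι g) ≫ p.hom := by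
  let e₁ := IsLimit.conePointUniqueUpToIso h.fIsKernel (kernelIsKernel (F.map g))
  refine ⟨e₁ ≪≫ kernel.mapIso (F.map g) g' p q w, ?_⟩
  have h1 : e₁.hom ≫ kernel.ι (F.map g) = F.map (kernel.ι g) :=
    IsLimit.conePointUniqueUpToIso_hom_comp h.fIsKernel (kernelIsKernel (F.map g)) WalkingParallelPair.zero
  simp only [Iso.trans_hom, kernel.mapIso_hom, Category.assoc, kernel.lift_ι, kernel.map]
  rw [← Category.assoc, h1]

variable {X : Scheme.{u}} {I : X.IdealSheafData} (𝔐 : FSch.ModSys (FSch.completionAlong X I)) {D : X.Modules}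
  (ψ : ∀ n, (Scheme.Modules.pullback (FSch.completionToX X I n)).obj D ⟶ 𝔐.F n)

/-- Adjoint families of epimorphisms are epimorphisms. -/
theorem epi_adjMap {n : ℕ} (φ : D ⟶ FormAlg.sysObj 𝔐 n) [Epi φ] : Epi (FormAlg.adjMap 𝔐 D n φ) := by
  let adj := Scheme.Modules.pullbackPushforwardAdjunction (FSch.completionToX X I n)
  have e : adj.unit.app D ≫ (Scheme.Modules.pushforward (FSch.completionToX X I n)).map (FormAlg.adjMap 𝔐 D n φ) = φ :=
    (adj.homEquiv_unit _ _ _).symm.trans (Equiv.apply_symm_apply _ _)
  haveI : Epi (adj.unit.app D ≫ (Scheme.Modules.pushforward (FSch.completionToX X I n)).map (FormAlg.adjMap 𝔐 D n φ)) := by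
    rw [e]; infer_instance
  haveI : Epi ((Scheme.Modules.pushforward (FSch.completionToX X I n)).map (FormAlg.adjMap 𝔐 D n φ)) :=
    epi_of_epi (adj.unit.app D) _
  haveI := (FormAlg.pushFF (FSch.completionToX X I n)).faithful
  exact (Scheme.Modules.pushforward (FSch.completionToX X I n)).epi_of_epi_map ‹_›

/-- The levelwise kernels form a locally free system. -/
theorem exists_kernelSys (hD : FlatMod.IsFinLocFree D) (h𝔐 : ∀ n, FlatMod.IsFinLocFree (𝔐.F n))
    [∀ n, Epi (ψ n)]
    (hψ : ∀ n, (Scheme.Modules.pullback ((FSch.completionAlong X I).ι n)).map (ψ (n + 1)) ≫ (𝔐.e n).hom =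
      (FormAlg.pullPullIso n D).hom ≫ ψ n) :
    ∃ (𝔎 : FSch.ModSys (FSch.completionAlong X I)) (κ : ∀ n, 𝔎.F n ⟶ (Scheme.Modules.pullback (FSch.completionToX X I n)).obj D),
      (∀ n, FlatMod.IsFinLocFree (𝔎.F n)) ∧
      (∀ n, (Scheme.Modules.pullback ((FSch.completionAlong X I).ι n)).map (κ (n + 1)) ≫ (FormAlg.pullPullIso n D).hom =
        (𝔎.e n).hom ≫ κ n) ∧
      ∀ n, ∃ w : κ n ≫ ψ n = 0, (ShortComplex.mk (κ n) (ψ n) w).Exact := by
  have hk : ∀ n, ∃ e : (Scheme.Modules.pullback ((FSch.completionAlong X I).ι n)).obj (kernel (ψ (n + 1))) ≅ kernel (ψ n),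
      e.hom ≫ kernel.ι (ψ n) = (Scheme.Modules.pullback ((FSch.completionAlong X I).ι n)).map (kernel.ι (ψ (n + 1))) ≫
        (FormAlg.pullPullIso n D).hom := fun n => by
    haveI := (Scheme.Modules.pullback ((FSch.completionAlong X I).ι n)).additive_of_preserves_binary_products
    exact exists_kernel_iso _ (ψ (n + 1)) (ψ n) (FormAlg.pullPullIso n D) (𝔐.e n) (hψ n)
      (shortExact_pullback _ { exact := ShortComplex.exact_of_f_is_kernel _ (kernelIsKernel _) } (h𝔐 (n + 1)))
  choose e he using hk
  exact ⟨⟨fun n => kernel (ψ n), e⟩, fun n => kernel.ι (ψ n),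
    fun n => DCohLocus.isFinLocFree_kernel (ψ n) (DerPerf.isFinLocFree_pullback _ hD) (h𝔐 n), fun n => (he n).symm,
    fun n => ⟨kernel.condition _, ShortComplex.exact_of_f_is_kernel _ (kernelIsKernel _)⟩⟩

end

end Groth.Agent.LeffAmple
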