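import Groth.Agent.LefRel.Lef
import Groth.Agent.SerrePn.ClosedDepth
import Groth.Agent.W7Hull.LiftHom
import Groth.Agent.TMul.RelAmple

/-!
Vanishing of the twists of a finite locally free module on a flat closed subscheme of fibre depth `≥ d`.
-/

set_option autoImplicit false
set_option maxHeartbeats 1000000
set_option linter.style.haveILetI false
set_option linter.unusedSectionVars false
set_option backward.isDefEq.respectTransparency false
set_option backward.isDefEq.respectTransparency.types false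
universe u

open CategoryTheory CategoryTheory.Limits AlgebraicGeometry TopologicalSpace Opposite
open Groth.Agent.Nakai (cl_tensor cl_pow cl_one iso_of_cl)

noncomputable section

namespace Groth.Agent.LeffAmple

attribute [local instance] Groth.Agent.Nakai.clMonoid

variable (A : Type u) [CommRing A] [IsNoetherianRing A] {X : Scheme.{u}} [X.Over (Spec (CommRingCat.of A))]
  [IsProper (X ↘ Spec (CommRingCat.of A))]

include A in
theorem exists_van_closed {Y : Scheme.{u}} (i : Y ⟶ X) [IsClosedImmersion i]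
    [Flat (i ≫ (X ↘ Spec (CommRingCat.of A)))] (d : ℕ)
    (hdepth : ∀ y : Y, IsClosed ({(i ≫ (X ↘ Spec (CommRingCat.of A))).asFiber y} :
        Set ↥((i ≫ (X ↘ Spec (CommRingCat.of A))).fiber ((i ≫ (X ↘ Spec (CommRingCat.of A))).base y))) →
      (d : ℕ∞) ≤ LocCoh.depth (CInt.fiberStalk (i ≫ (X ↘ Spec (CommRingCat.of A))) y)
        (CInt.fiberStalk (i ≫ (X ↘ Spec (CommRingCat.of A))) y))
    {L Linv : X.Modules} (hamp : CohB1.IsAmple L) (hi : PicF.IsInvertible Linv) (hinv : ClSub.IsInverseOf Linv L)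
    (G : Y.Modules) (hG : FlatMod.IsFinLocFree G) (j : ℕ) (hj : j < d) :
    ∃ m₀ : ℕ, ∀ m, m₀ ≤ m → Subsingleton (Coh.HH X
      (CohB1.tensorMod ((Scheme.Modules.pushforward i).obj G) (CohB1.tensorPow Linv m)) j) := by
  letI : Y.Over (Spec (CommRingCat.of A)) := ⟨i ≫ (X ↘ Spec (CommRingCat.of A))⟩
  haveI : IsProper (Y ↘ Spec (CommRingCat.of A)) := inferInstanceAs (IsProper (i ≫ (X ↘ Spec (CommRingCat.of A))))
  haveI : Flat (Y ↘ Spec (CommRingCat.of A)) := inferInstanceAs (Flat (i ≫ (X ↘ Spec (CommRingCat.of A))))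
  let f := Y ↘ Spec (CommRingCat.of A)
  haveI : IsLocallyNoetherian Y := LocallyOfFiniteType.isLocallyNoetherian f
  have hGc : Coh.IsCoh G := ⟨LocFree.isQCoh_of_isFinLocFree hG, LocFree.isFT_of_isFinLocFree hG⟩
  obtain ⟨e⟩ := hinv
  have hd' : ∀ y : Y, IsClosed ({f.asFiber y} : Set ↥(f.fiber (f y))) →
      (d : ℕ∞) ≤ LocCoh.depth ((f.fiber (f y)).presheaf.stalk (f.asFiber y))
        ((CohIII.fiberMod f G (f y)).presheaf.stalk (f.asFiber y)) := fun y hy => by
    let F := CohIII.fiberMod f G (f y)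
    have hF : FlatMod.IsFinLocFree F := DerPerf.isFinLocFree_pullback _ hG
    haveI : IsLocallyNoetherian (f.fiber (f y)) := LocallyOfFiniteType.isLocallyNoetherian (f.fiberToSpecResidueField (f y))
    haveI := RegDual.finite_stalk (F := F) ⟨LocFree.isQCoh_of_isFinLocFree hF, LocFree.isFT_of_isFinLocFree hF⟩ (f.asFiber y)
    haveI := LocFree.free_stalk_of_isFinLocFree hF (f.asFiber y)
    exact SerrePn.le_depth_free (B := (f.fiber (f y)).presheaf.stalk (f.asFiber y)) (hdepth y hy) (F.presheaf.stalk (f.asFiber y))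
  obtain ⟨m₀, hm₀⟩ := LefRel.exists_vanishing A G hGc (W7Hull.isFlatOver_of_isFinLocFree f hG) d hd'
    (TMul.isAmple_pullback_of_isAffineHom i hamp) (PicLoc.isInvertible_pullback i hi)
    ⟨(TMul.nonempty_pullTensorIso i Linv L).some ≪≫ (Scheme.Modules.pullback i).mapIso e ≪≫ DerPerf.pullUnitIso i⟩
  refine ⟨m₀, fun m hm => ?_⟩
  haveI := hGc.1
  obtain ⟨ε⟩ := SerrePn.nonempty_hh_pushTwist A i rfl G (TMul.isInvertible_tensorPow hi m) j
  haveI : Subsingleton (Coh.HH Y (CohB1.tensorMod G ((Scheme.Modules.pullback i).obj (CohB1.tensorPow Linv m))) j) :=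
    CohQC.hh_subsingleton_of_iso ((DCoh.tensorBi.obj G).mapIso (TMul.nonempty_pullPowIso i Linv m).some) j
      (hm₀ m hm j hj)
  exact ε.symm.toEquiv.subsingleton

end Groth.Agent.LeffAmple
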