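import Groth.Agent.LeffAmple.Stalk
import Groth.Agent.CycK0.Twist
import Groth.Agent.CohFinite.AmpleH1
import Groth.Agent.FlatFunLib.ModCond

/-!
The short exact sequences between the levels of a locally free system along an effective Cartier divisor.
-/

set_option autoImplicit false
set_option maxHeartbeats 1000000
set_option linter.style.haveILetI false
set_option linter.unusedSectionVars false
set_option backward.isDefEq.respectTransparency false
set_option backward.isDefEq.respectTransparency.types false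
universe u

namespace Groth.Agent.LeffAmple

open CategoryTheory CategoryTheory.Limits AlgebraicGeometry TopologicalSpace Opposite
open Groth.Agent.K0Dev (St)
open Groth.Agent.CycK0 (twist theta)
open Groth.Agent.WeakAssLib (mgerm)
open FormAlg (sysObj sysTn)
open TMul (IsGen)

noncomputable section

variable {X : Scheme.{u}} {I : X.IdealSheafData}

/-- Multiplication by the ideal. -/
def mulJ (J : X.IdealSheafData) (G : X.Modules) : (twist (ClSub.idealMod J)).obj G ⟶ G :=
  (TMul.commIso G (ClSub.idealMod J)).hom ≫ CohFinite.actMap (ClSub.idealModι J) G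

theorem mulJ_tm (J : X.IdealSheafData) (G : X.Modules) {U : X.Opens} (s : Γ(G, U)) (a : Γ(ClSub.idealMod J, U)) :
    ((TMul.commIso G (ClSub.idealMod J)).hom ≫ CohFinite.actMap (ClSub.idealModι J) G).app U (TMul.tm s a) =
      (show Γ(X, U) from (ClSub.idealModι J).app U a) • s :=
  (congrArg ((CohFinite.actMap (ClSub.idealModι J) G).app U) (TMul.commHom_tm s a)).trans
    (CohFinite.actMap_tm (ClSub.idealModι J) G a s)

theorem mulJ_theta (J : X.IdealSheafData) (G : X.Modules) {A : X.Opens} {e : Γ(ClSub.idealMod J, A)} (he : IsGen e)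
    {x : X} (hx : x ∈ A) (v : G.presheaf.stalk x) :
    ((St x).map (mulJ J G)).hom (theta he hx G v) = CompInt.istalk J x (mgerm (ClSub.idealMod J) hx e) • v := by
  obtain ⟨U, hU, s, rfl⟩ := KFlat.exists_pgerm (DCoh.toP.obj G) x v
  let W : X.Opens := U ⊓ A
  have hW : x ∈ W := ⟨hU, hx⟩
  show ((St x).map (mulJ J G)).hom (theta he hx G (mgerm G hU s)) = _ • mgerm G hU s
  rw [← WeakAssLib.mgerm_res G (inf_le_left : W ≤ U) hW s, CycK0.theta_germ he hx G hW inf_le_right,
    ← WeakAssLib.mgerm_res (ClSub.idealMod J) (inf_le_right : W ≤ A) hW e]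
  refine (KFlat.pstMap_germ (DCoh.toP.map (mulJ J G)) x hW _).trans ?_
  refine (congrArg (mgerm G hW) (mulJ_tm J G _ _)).trans ?_
  rw [WeakAssLib.mgerm_smul]
  exact congrArg (· • _) (CompInt.istalk_germ J x hW _).symm

theorem isInvertible_pow (hI : BlowUp.IsEffCartierIdeal I) (a : ℕ) :
    PicF.IsInvertible (ClSub.idealMod (I ^ (a + 1))) :=
  (Groth.Agent.S8914.result _).2 (LefDiv.idealMod_pow hI a).1

/-- A generator of a power of the ideal near a point, in terms of the equation. -/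
theorem exists_gen_pow (hI : BlowUp.IsEffCartierIdeal I) {x : X} (ε : Eqn I x) (a : ℕ) :
    ∃ (A : X.Opens) (e : Γ(ClSub.idealMod (I ^ (a + 1)), A)) (hx : x ∈ A) (_ : IsGen e) (c : X.presheaf.stalk x),
      IsUnit c ∧ CompInt.istalk (I ^ (a + 1)) x (mgerm (ClSub.idealMod (I ^ (a + 1))) hx e) = c * ε.γ ^ (a + 1) := by
  obtain ⟨eJ, heJ⟩ := LefRel.exists_stalk_generator (I ^ (a + 1)) (isInvertible_pow hI a) ε.U x ε.mem (ε.g ^ (a + 1))
    (by rw [Scheme.IdealSheafData.ideal_pow, Pi.pow_apply, ε.span, Ideal.span_singleton_pow])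
  obtain ⟨A, e, hx, he⟩ := TMul.exists_isGen (isInvertible_pow hI a) x
  refine ⟨A, e, hx, he, eJ.symm (mgerm _ hx e), ?_, ?_⟩
  · obtain ⟨r, hr⟩ := (CycK0.bijective_smul_germ he hx).2 (eJ 1)
    refine IsUnit.of_mul_eq_one_right r ?_
    have := congrArg eJ.symm hr
    rwa [LinearMap.toSpanSingleton_apply, map_smul, LinearEquiv.symm_apply_apply, smul_eq_mul] at this
  · have h1 : mgerm (ClSub.idealMod (I ^ (a + 1))) hx e = eJ.symm (mgerm _ hx e) • eJ 1 := by
      rw [← map_smul, smul_eq_mul, mul_one, LinearEquiv.apply_symm_apply]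
    conv_lhs => rw [h1, map_smul, heJ, map_pow]
    rfl

variable (𝔐 : FSch.ModSys (FSch.completionAlong X I))

theorem epi_tr (hI : BlowUp.IsEffCartierIdeal I) {a b : ℕ} (h : a ≤ b) : Epi (tr 𝔐 h) := by
  refine Preadditive.epi_of_isZero_cokernel _ (KFlat.isZero_of_stalks _ fun x => ?_)
  obtain ⟨ε⟩ := exists_eqn hI x
  haveI : Epi ((St x).map (tr 𝔐 h)) := (ModuleCat.epi_iff_surjective _).2 (tr_stalk ε h).1
  exact IsZero.of_epi_eq_zero ((St x).map (cokernel.π (tr 𝔐 h))) ((cancel_epi ((St x).map (tr 𝔐 h))).1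
    (by rw [← Functor.map_comp, cokernel.condition, Functor.map_zero, comp_zero]))

/-- The levels fit in short exact sequences. -/
theorem exists_seq (hI : BlowUp.IsEffCartierIdeal I) (h𝔐 : ∀ n, FlatMod.IsFinLocFree (𝔐.F n)) (a b : ℕ) :
    ∃ (φ : CohB1.tensorMod (sysObj 𝔐 b) (ClSub.idealMod (I ^ (a + 1))) ⟶ sysObj 𝔐 (a + b + 1))
      (w : φ ≫ tr 𝔐 (show a ≤ a + b + 1 by omega) = 0), (ShortComplex.mk φ _ w).ShortExact := by
  let m := a + b + 1
  have hbm : b ≤ m := by omega
  have ham : a ≤ m := by omega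
  let J := I ^ (a + 1)
  let q := (twist (ClSub.idealMod J)).map (tr 𝔐 hbm)
  let f := mulJ J (sysObj 𝔐 m)
  have hJ := isInvertible_pow hI a
  haveI hqepi : Epi q := by
    haveI := epi_tr 𝔐 hI hbm
    have hS : (ShortComplex.mk (kernel.ι (tr 𝔐 hbm)) (tr 𝔐 hbm) (kernel.condition _)).ShortExact :=
      { exact := ShortComplex.exact_of_f_is_kernel _ (kernelIsKernel _) }
    exact (CycK0.twist_shortExact hJ hS).epi_g
  have key : ∀ x : X, ∃ (A : X.Opens) (e : Γ(ClSub.idealMod J, A)) (hx : x ∈ A) (he : IsGen e) (ε : Eqn I x)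
      (c : X.presheaf.stalk x), IsUnit c ∧
      (∀ G v, ((St x).map (mulJ J G)).hom (theta he hx G v) = (c * ε.γ ^ (a + 1)) • v) := fun x => by
    obtain ⟨ε⟩ := exists_eqn hI x
    obtain ⟨A, e, hx, he, c, hc, heq⟩ := exists_gen_pow hI ε a
    exact ⟨A, e, hx, he, ε, c, hc, fun G v => by rw [mulJ_theta, heq]⟩
  have hk : kernel.ι q ≫ f = 0 := by
    refine FlatFunLib.eq_zero_of_stalks _ fun x => ?_
    obtain ⟨A, e, hx, he, ε, c, -, hf⟩ := key x
    refine ModuleCat.hom_ext (LinearMap.ext fun u => ?_)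
    rw [Functor.map_comp]
    show ((St x).map f).hom (((St x).map (kernel.ι q)).hom u) = 0
    obtain ⟨v, hv⟩ := (theta he hx (sysObj 𝔐 m)).surjective (((St x).map (kernel.ι q)).hom u)
    have h0 : ((St x).map q).hom (((St x).map (kernel.ι q)).hom u) = 0 := by
      rw [← ConcreteCategory.comp_apply ((St x).map (kernel.ι q)), ← Functor.map_comp, kernel.condition, Functor.map_zero]
      rfl
    rw [← hv, CycK0.theta_natural] at h0
    obtain ⟨w, hw⟩ := (tr_stalk ε hbm).2 v ((theta he hx (sysObj 𝔐 b)).map_eq_zero_iff.1 h0)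
    rw [← hv, hf, hw, smul_smul, mul_assoc, ← pow_add, mul_smul,
      show a + 1 + (b + 1) = m + 1 by omega, pow_smul_eq_zero, smul_zero]
  let φ := Abelian.epiDesc q f hk
  have hqφ : q ≫ φ = f := Abelian.comp_epiDesc q f hk
  have hφ : ∀ (x : X) (A : X.Opens) (e : Γ(ClSub.idealMod J, A)) (hx : x ∈ A) (he : IsGen e) (v),
      ((St x).map φ).hom (theta he hx (sysObj 𝔐 b) (((St x).map (tr 𝔐 hbm)).hom v)) =
        ((St x).map f).hom (theta he hx (sysObj 𝔐 m) v) := fun x A e hx he v => by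
    rw [← CycK0.theta_natural, ← hqφ, Functor.map_comp]
    rfl
  have hw : φ ≫ tr 𝔐 ham = 0 := by
    rw [← cancel_epi q, comp_zero, ← Category.assoc, hqφ]
    refine FlatFunLib.eq_zero_of_stalks _ fun x => ?_
    obtain ⟨A, e, hx, he, ε, c, -, hf⟩ := key x
    refine ModuleCat.hom_ext (LinearMap.ext fun u => ?_)
    obtain ⟨v, rfl⟩ := (theta he hx (sysObj 𝔐 m)).surjective u
    rw [Functor.map_comp]
    show ((St x).map (tr 𝔐 ham)).hom (((St x).map f).hom (theta he hx (sysObj 𝔐 m) v)) = 0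
    rw [hf, map_smul, mul_smul, pow_smul_eq_zero, smul_zero]
  refine ⟨φ, hw, CycK0.shortExact_of_stalks _ fun x => ?_⟩
  obtain ⟨A, e, hx, he, ε, c, hc, hf⟩ := key x
  obtain ⟨hb₁, hb₂⟩ := tr_stalk (𝔐 := 𝔐) ε hbm
  refine { exact := ?_, mono_f := (ModuleCat.mono_iff_injective _).2 ?_,
           epi_g := (ModuleCat.epi_iff_surjective _).2 (tr_stalk ε ham).1 }
  · rw [ShortComplex.moduleCat_exact_iff]
    intro u hu
    obtain ⟨w, hw'⟩ := (tr_stalk ε ham).2 u hu
    obtain ⟨r, hr⟩ := hc.exists_left_inv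
    refine ⟨theta he hx (sysObj 𝔐 b) (((St x).map (tr 𝔐 hbm)).hom (r • w)), ?_⟩
    refine (hφ x A e hx he _).trans ?_
    rw [hf, hw', smul_smul, mul_comm c, mul_assoc, mul_comm c r, hr, mul_one]
  · refine (injective_iff_map_eq_zero ((St x).map φ).hom).2 fun u hu => ?_
    obtain ⟨u', rfl⟩ := (theta he hx (sysObj 𝔐 b)).surjective u
    obtain ⟨v, rfl⟩ := hb₁ u'
    have h1 := (hφ x A e hx he v).symm.trans hu
    rw [hf, mul_smul] at h1
    obtain ⟨w, hw'⟩ := exists_of_pow_smul_eq_zero ε h𝔐 (i := a + 1) (k := b + 1) (by omega) v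
      ((hc.smul_eq_zero).1 h1)
    rw [hw', map_smul, pow_smul_eq_zero, map_zero]

end

end Groth.Agent.LeffAmple
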